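import Groth.Agent.L05.EtaleApprox.Patch
import Mathlib.Algebra.Module.LocalizedModule.Basic
import Mathlib.RingTheory.Nilpotent.Basic
import Mathlib.RingTheory.Ideal.Maximal

/-!
# The two term complex of localizations
-/

set_option autoImplicit false

universe u

open scoped TensorProduct

namespace Groth.L05.EtaleApprox

/-- A system of localizations of a module at products of finitely many elements. -/
structure LocSys (R : Type u) [CommRing R] (X : Type u) [AddCommGroup X] [Module R X] (r : ℕ) where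
  K : Type u
  φ : K → R
  M : K → Type u
  acg : ∀ x, AddCommGroup (M x)
  mod : ∀ x, Module R (M x)
  g : ∀ x, X →ₗ[R] M x
  isLoc : ∀ x, IsLocalizedModule (Submonoid.powers (φ x)) (g x)
  k1 : Fin r → K
  k2 : Fin r → Fin r → K
  k3 : Fin r → Fin r → Fin r → K
  hk2 : ∀ i j, φ (k2 i j) = φ (k1 i) * φ (k1 j)
  hk3 : ∀ i j l, φ (k3 i j l) = φ (k1 i) * φ (k1 j) * φ (k1 l)

namespace LocSys

variable {R : Type u} [CommRing R] {X : Type u} [AddCommGroup X] [Module R X] {r : ℕ}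
  (D : LocSys R X r)

instance (x : D.K) : AddCommGroup (D.M x) := D.acg x
instance (x : D.K) : Module R (D.M x) := D.mod x
instance (x : D.K) : IsLocalizedModule (Submonoid.powers (D.φ x)) (D.g x) := D.isLoc x

/-- The ideal generated by the elements. -/
def ideal : Ideal R := Ideal.span (Set.range fun i => D.φ (D.k1 i))

theorem units {x y : D.K} (h : D.φ x ∣ D.φ y) (s : Submonoid.powers (D.φ x)) :
    IsUnit (algebraMap R (Module.End R (D.M y)) (s : R)) := by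
  obtain ⟨_, n, rfl⟩ := s
  obtain ⟨c, hc⟩ := h
  have := IsLocalizedModule.map_units (D.g y) (⟨(D.φ y) ^ n, n, rfl⟩ : Submonoid.powers (D.φ y))
  simp only [hc, mul_pow, map_mul] at this
  exact ((Commute.all (D.φ x ^ n) (c ^ n)).map (algebraMap R (Module.End R (D.M y)))).isUnit_mul_iff.mp this |>.1

/-- Restriction. -/
noncomputable def res {x y : D.K} (h : D.φ x ∣ D.φ y) : D.M x →ₗ[R] D.M y :=
  IsLocalizedModule.lift (Submonoid.powers (D.φ x)) (D.g x) (D.g y) (D.units h)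

theorem res_g {x y : D.K} (h : D.φ x ∣ D.φ y) (m : X) : D.res h (D.g x m) = D.g y m :=
  IsLocalizedModule.lift_apply _ _ _ _ m

theorem res_unique {x y : D.K} (h : D.φ x ∣ D.φ y) (f : D.M x →ₗ[R] D.M y)
    (hf : ∀ m, f (D.g x m) = D.g y m) : f = D.res h :=
  IsLocalizedModule.ext (Submonoid.powers (D.φ x)) (D.g x) (D.units h)
    (LinearMap.ext fun m => by rw [LinearMap.comp_apply, LinearMap.comp_apply, hf, res_g])

theorem res_res {x y z : D.K} (h : D.φ x ∣ D.φ y) (h' : D.φ y ∣ D.φ z) (m : D.M x) :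
    D.res h' (D.res h m) = D.res (h.trans h') m :=
  LinearMap.congr_fun (D.res_unique (h.trans h') (D.res h' ∘ₗ D.res h)
    fun w => by rw [LinearMap.comp_apply, res_g, res_g]) m

theorem exists_pow {x : D.K} (m : D.M x) : ∃ (n : ℕ) (w : X), D.φ x ^ n • m = D.g x w := by
  obtain ⟨⟨w, ⟨_, n, rfl⟩⟩, hw⟩ := IsLocalizedModule.surj (Submonoid.powers (D.φ x)) (D.g x) m
  exact ⟨n, w, hw⟩

theorem smul_inj {x : D.K} (n : ℕ) {m : D.M x} (h : D.φ x ^ n • m = 0) : m = 0 := by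
  refine IsLocalizedModule.smul_injective (D.g x) (⟨_, n, rfl⟩ : Submonoid.powers (D.φ x)) ?_
  exact h.trans (smul_zero _).symm

/-- The kernel of a restriction to a product. -/
theorem exists_kill {x y : D.K} (c : R) (hy : D.φ y = D.φ x * c) {m : D.M x}
    (h : D.res (Dvd.intro c hy.symm) m = 0) : ∃ p, c ^ p • m = 0 := by
  obtain ⟨n, w, hw⟩ := D.exists_pow m
  have h1 : D.g y w = 0 := by
    rw [← D.res_g (Dvd.intro c hy.symm), ← hw, map_smul, h, smul_zero]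
  obtain ⟨⟨_, p, rfl⟩, hp⟩ := (IsLocalizedModule.eq_zero_iff (Submonoid.powers (D.φ y)) (D.g y)).mp h1
  refine ⟨p, D.smul_inj (p + n) ?_⟩
  have h2 : D.φ y ^ p • w = 0 := hp
  have h3 := congrArg (D.g x) h2
  rw [map_smul, ← hw, map_zero, hy, mul_pow] at h3
  rw [← h3, smul_smul, smul_smul, pow_add]
  ring_nf

theorem pow_le_of_forall (V : Ideal R) (h : ∀ i, ∃ p, D.φ (D.k1 i) ^ p ∈ V) :
    ∃ k, D.ideal ^ k ≤ V := by
  refine Ideal.exists_pow_le_of_le_radical_of_fg ?_ (Submodule.fg_span (Set.finite_range _))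
  rw [ideal, Ideal.span_le]
  rintro _ ⟨i, rfl⟩
  exact h i

theorem torsionMod_of_forall {W : Type u} [AddCommGroup W] [Module R W] (V : Submodule R W) (w : W)
    (h : ∀ i, ∃ p, D.φ (D.k1 i) ^ p • w ∈ V) : TorsionMod D.ideal V w := by
  obtain ⟨k, hk⟩ := D.pow_le_of_forall (Submodule.comap (LinearMap.toSpanSingleton R W w) V) h
  exact ⟨k, fun a ha => hk ha⟩

/-- The zeroth term. -/
abbrev P0 : Type u := ∀ i, D.M (D.k1 i)

/-- The first term. -/
abbrev P1 : Type u := ∀ p : Fin r × Fin r, D.M (D.k2 p.1 p.2)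

/-- The augmentation. -/
noncomputable def loc : X →ₗ[R] D.P0 := LinearMap.pi fun i => D.g (D.k1 i)

theorem dvd_left (i j : Fin r) : D.φ (D.k1 i) ∣ D.φ (D.k2 i j) := Dvd.intro _ (D.hk2 i j).symm

theorem dvd_right (i j : Fin r) : D.φ (D.k1 j) ∣ D.φ (D.k2 i j) :=
  Dvd.intro_left _ (D.hk2 i j).symm

/-- The differential. -/
noncomputable def d : D.P0 →ₗ[R] D.P1 :=
  LinearMap.pi fun p => D.res (D.dvd_left p.1 p.2) ∘ₗ LinearMap.proj p.1 -
    D.res (D.dvd_right p.1 p.2) ∘ₗ LinearMap.proj p.2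

theorem d_apply (n : D.P0) (i j : Fin r) :
    D.d n (i, j) = D.res (D.dvd_left i j) (n i) - D.res (D.dvd_right i j) (n j) := rfl

theorem d_loc (m : X) : D.d (D.loc m) = 0 := by
  funext ⟨i, j⟩
  rw [d_apply]
  show D.res _ (D.g _ m) - D.res _ (D.g _ m) = 0
  rw [res_g, res_g, sub_self]

theorem torsion_ker_loc {m : X} (h : D.loc m = 0) : ∃ k, ∀ a ∈ D.ideal ^ k, a • m = 0 := by
  obtain ⟨k, hk⟩ := D.torsionMod_of_forall ⊥ m fun i => by
    obtain ⟨⟨_, p, rfl⟩, hp⟩ :=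
      (IsLocalizedModule.eq_zero_iff (Submonoid.powers (D.φ (D.k1 i))) (D.g (D.k1 i))).mp (congrFun h i)
    exact ⟨p, hp⟩
  exact ⟨k, fun a ha => hk a ha⟩

theorem loc_eq_zero_of_torsion {m : X} (h : ∃ k, ∀ a ∈ D.ideal ^ k, a • m = 0) : D.loc m = 0 := by
  obtain ⟨k, hk⟩ := h
  funext i
  refine D.smul_inj k ?_
  show D.φ (D.k1 i) ^ k • D.g _ m = 0
  have hi : D.φ (D.k1 i) ∈ D.ideal := Ideal.subset_span ⟨i, rfl⟩
  rw [← map_smul, hk _ (Ideal.pow_mem_pow hi k), map_zero]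

theorem torsion_ker_d (n : D.P0) (hn : n ∈ LinearMap.ker D.d) :
    TorsionMod D.ideal (LinearMap.range D.loc) n := by
  refine D.torsionMod_of_forall _ n fun l => ?_
  obtain ⟨q, w, hw⟩ := D.exists_pow (n l)
  have hkill : ∀ i, ∃ p, D.φ (D.k1 l) ^ p • (D.φ (D.k1 l) ^ q • n i - D.g (D.k1 i) w) = 0 := by
    intro i
    refine D.exists_kill (y := D.k2 i l) _ (D.hk2 i l) ?_
    have h1 : D.d n (i, l) = 0 := congrFun (LinearMap.mem_ker.mp hn) (i, l)
    rw [d_apply, sub_eq_zero] at h1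
    rw [map_sub, map_smul, h1, ← map_smul, hw, res_g, res_g, sub_self]
  choose p hp using hkill
  refine ⟨(∑ i, p i) + q, D.φ (D.k1 l) ^ (∑ i, p i) • w, funext fun i => ?_⟩
  show D.g (D.k1 i) (D.φ (D.k1 l) ^ (∑ i, p i) • w) = D.φ (D.k1 l) ^ ((∑ i, p i) + q) • n i
  obtain ⟨e, he⟩ := Nat.exists_eq_add_of_le
    (Finset.single_le_sum (f := p) (fun i _ => Nat.zero_le _) (Finset.mem_univ i))
  rw [map_smul, pow_add, mul_smul, eq_comm, ← sub_eq_zero, ← smul_sub, he, pow_add, mul_comm, mul_smul,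
    hp, smul_zero]

theorem torsion_cocycle (ε : D.P1)
    (hcoc : ∀ i j l (h1 : D.φ (D.k2 i j) ∣ D.φ (D.k3 i j l)) (h2 : D.φ (D.k2 i l) ∣ D.φ (D.k3 i j l))
      (h3 : D.φ (D.k2 j l) ∣ D.φ (D.k3 i j l)),
      D.res h1 (ε (i, j)) = D.res h2 (ε (i, l)) - D.res h3 (ε (j, l))) :
    TorsionMod D.ideal (LinearMap.range D.d) ε := by
  refine D.torsionMod_of_forall _ ε fun l => ?_
  have hsec : ∀ i, ∃ q, ∃ m : D.M (D.k1 i), D.res (D.dvd_left i l) m = D.φ (D.k1 l) ^ q • ε (i, l) := by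
    intro i
    obtain ⟨q, w, hw⟩ := D.exists_pow (ε (i, l))
    have hu : IsUnit (algebraMap R (Module.End R (D.M (D.k1 i))) (D.φ (D.k1 i) ^ q)) :=
      D.units dvd_rfl ⟨_, q, rfl⟩
    refine ⟨q, (↑hu.unit⁻¹ : Module.End R (D.M (D.k1 i))) (D.g _ w), ?_⟩
    obtain ⟨m, hm⟩ : ∃ m, (↑hu.unit⁻¹ : Module.End R (D.M (D.k1 i))) (D.g _ w) = m := ⟨_, rfl⟩
    have hm' : D.φ (D.k1 i) ^ q • m = D.g _ w := by
      rw [← hm]
      exact LinearMap.congr_fun hu.mul_val_inv (D.g _ w)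
    rw [hm]
    have hu2 : IsUnit (algebraMap R (Module.End R (D.M (D.k2 i l))) (D.φ (D.k1 i) ^ q)) :=
      D.units (D.dvd_left i l) ⟨_, q, rfl⟩
    refine ((Module.End.isUnit_iff _).mp hu2).1 ?_
    show D.φ (D.k1 i) ^ q • D.res (D.dvd_left i l) m = D.φ (D.k1 i) ^ q • (D.φ (D.k1 l) ^ q • ε (i, l))
    rw [← map_smul, hm', res_g, ← hw, D.hk2, mul_pow, mul_smul]
  choose q m hm using hsec
  obtain ⟨Q, hQ⟩ : ∃ Q, ∀ i, q i ≤ Q := ⟨∑ i, q i, fun i =>
    Finset.single_le_sum (f := q) (fun i _ => Nat.zero_le _) (Finset.mem_univ i)⟩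
  let n : D.P0 := fun i => D.φ (D.k1 l) ^ (Q - q i) • m i
  have hn : ∀ i, D.res (D.dvd_left i l) (n i) = D.φ (D.k1 l) ^ Q • ε (i, l) := fun i => by
    simp only [n, map_smul, hm, smul_smul, ← pow_add, Nat.sub_add_cancel (hQ i)]
  have hkill : ∀ ij : Fin r × Fin r, ∃ p,
      D.φ (D.k1 l) ^ p • (D.φ (D.k1 l) ^ Q • ε ij - D.d n ij) = 0 := by
    rintro ⟨i, j⟩
    have h : D.φ (D.k3 i j l) = D.φ (D.k2 i j) * D.φ (D.k1 l) := by rw [D.hk3, D.hk2]
    have h2 : D.φ (D.k2 i l) ∣ D.φ (D.k3 i j l) := ⟨D.φ (D.k1 j), by rw [D.hk3, D.hk2]; ring⟩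
    have h3 : D.φ (D.k2 j l) ∣ D.φ (D.k3 i j l) := ⟨D.φ (D.k1 i), by rw [D.hk3, D.hk2]; ring⟩
    refine D.exists_kill (y := D.k3 i j l) _ h ?_
    rw [map_sub, map_smul, hcoc i j l _ h2 h3, d_apply, map_sub, D.res_res, D.res_res,
      ← D.res_res (D.dvd_left i l) h2, ← D.res_res (D.dvd_left j l) h3, hn, hn, map_smul, map_smul,
      smul_sub, sub_self]
  choose p hp using hkill
  refine ⟨(∑ ij, p ij) + Q, D.φ (D.k1 l) ^ (∑ ij, p ij) • n, funext fun ij => ?_⟩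
  obtain ⟨e, he⟩ := Nat.exists_eq_add_of_le
    (Finset.single_le_sum (f := p) (fun i _ => Nat.zero_le _) (Finset.mem_univ ij))
  rw [map_smul, Pi.smul_apply, Pi.smul_apply, pow_add, mul_smul, eq_comm, ← sub_eq_zero, ← smul_sub, he,
    pow_add, mul_comm, mul_smul, hp, smul_zero]

variable {S : Type u} [CommRing S] [Algebra R S]

theorem torsion_ker_locS [Module.Flat R S] (y : S ⊗[R] X) (hy : D.loc.lTensor S y = 0) :
    ∃ k, ∀ a ∈ D.ideal ^ k, a • y = 0 := by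
  obtain ⟨z, rfl⟩ := (Module.Flat.lTensor_exact S (LinearMap.exact_subtype_ker_map D.loc) y).mp hy
  clear hy
  induction z with
  | zero => exact ⟨0, fun a _ => by simp⟩
  | tmul s x =>
    obtain ⟨k, hk⟩ := D.torsion_ker_loc (m := x.1) x.2
    refine ⟨k, fun a ha => ?_⟩
    rw [LinearMap.lTensor_tmul, Submodule.subtype_apply, ← TensorProduct.tmul_smul, hk a ha,
      TensorProduct.tmul_zero]
  | add a b ha hb =>
    obtain ⟨k, hk⟩ := ha
    obtain ⟨l, hl⟩ := hb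
    refine ⟨k + l, fun c hc => ?_⟩
    rw [map_add, smul_add, hk c (Ideal.pow_le_pow_right (Nat.le_add_right k l) hc),
      hl c (Ideal.pow_le_pow_right (Nat.le_add_left l k) hc), add_zero]

theorem ideal_fg : D.ideal.FG := Submodule.fg_span (Set.finite_range _)

/-- Gluing for a system of localizations. -/
theorem glue [Module.Flat R S] (h : IsoMod D.ideal S) {y : S ⊗[R] X} {n : D.P0} (hn : D.d n = 0)
    (hy : D.loc.lTensor S y = (1 : S) ⊗ₜ[R] n) : ∃ x : X, (1 : S) ⊗ₜ[R] x = y ∧ D.loc x = n :=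
  h.exists_glue D.ideal_fg D.torsion_ker_d D.torsion_ker_locS
    (fun _ hx => D.loc_eq_zero_of_torsion hx) hn hy

/-- Vanishing of the obstruction for a system of localizations. -/
theorem correct [Module.Flat R S] (h : IsoMod D.ideal S) {δ : S ⊗[R] D.P0} {ε : D.P1}
    (hε : TorsionMod D.ideal (LinearMap.range D.d) ε) (hδε : D.d.lTensor S δ = (1 : S) ⊗ₜ[R] ε) :
    ∃ (y : S ⊗[R] X) (n : D.P0), D.d n = ε ∧ δ = D.loc.lTensor S y + (1 : S) ⊗ₜ[R] n :=
  h.exists_correction D.torsion_ker_d hε hδε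

end LocSys

end Groth.L05.EtaleApprox
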