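import Groth.Agent.L05.EtaleApprox.Setup
import Groth.Agent.S9462
import Mathlib.RingTheory.RingHom.Etale
import Mathlib.RingTheory.FiniteType

/-!
# The glued lift
-/

set_option autoImplicit false
set_option linter.style.haveILetI false
set_option backward.isDefEq.respectTransparency.types false
set_option backward.isDefEq.respectTransparency false

universe u

open scoped TensorProduct

namespace Groth.L05.EtaleApprox

theorem pi_tensor_ext {R : Type u} [CommRing R] {S : Type u} [CommRing S] [Algebra R S] {ι : Type}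
    [Fintype ι] [DecidableEq ι] {M : ι → Type u} [∀ i, AddCommGroup (M i)] [∀ i, Module R (M i)]
    {z w : S ⊗[R] (∀ i, M i)}
    (h : ∀ i, (LinearMap.proj (R := R) (φ := M) i).lTensor S z =
      (LinearMap.proj (R := R) (φ := M) i).lTensor S w) : z = w := by
  apply (TensorProduct.piRight R R S M).injective
  have key : ∀ t i, TensorProduct.piRight R R S M t i =
      (LinearMap.proj (R := R) (φ := M) i).lTensor S t := by
    intro t i
    induction t with
    | zero => simp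
    | tmul s m => simp
    | add a b ha hb => simp only [map_add, Pi.add_apply, ha, hb]
  funext i
  rw [key, key, h i]

theorem exists_pi_tensor {R : Type u} [CommRing R] {S : Type u} [CommRing S] [Algebra R S] {ι : Type}
    [Fintype ι] [DecidableEq ι] {M : ι → Type u} [∀ i, AddCommGroup (M i)] [∀ i, Module R (M i)]
    (v : ∀ i, S ⊗[R] M i) :
    ∃ z : S ⊗[R] (∀ i, M i), ∀ i, (LinearMap.proj (R := R) (φ := M) i).lTensor S z = v i := by
  refine ⟨(TensorProduct.piRight R R S M).symm v, fun i => ?_⟩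
  have key : ∀ t i, TensorProduct.piRight R R S M t i =
      (LinearMap.proj (R := R) (φ := M) i).lTensor S t := by
    intro t i
    induction t with
    | zero => simp
    | tmul s m => simp
    | add a b ha hb => simp only [map_add, Pi.add_apply, ha, hb]
  rw [← key, LinearEquiv.apply_symm_apply]

namespace Data

variable (T : Data.{u})

/-- The glued algebra. -/
noncomputable def B : Subalgebra T.A (T.C × ∀ i, T.E (T.k1 i)) where
  carrier := {p | (∀ i, T.ψ (T.k1 i) (p.2 i) = algebraMap T.C (T.CL (T.k1 i)) p.1) ∧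
    ∀ i j, T.ρ (T.k1_left i j) (p.2 i) = T.ρ (T.k1_right i j) (p.2 j)}
  mul_mem' := fun {p q} hp hq => ⟨fun i => by
      rw [Prod.snd_mul, Prod.fst_mul, Pi.mul_apply, map_mul, map_mul, hp.1, hq.1],
    fun i j => by
      rw [Prod.snd_mul, Pi.mul_apply, Pi.mul_apply, map_mul, map_mul, hp.2 i j, hq.2 i j]⟩
  add_mem' := fun {p q} hp hq => ⟨fun i => by
      rw [Prod.snd_add, Prod.fst_add, Pi.add_apply, map_add, map_add, hp.1, hq.1],
    fun i j => by
      rw [Prod.snd_add, Pi.add_apply, Pi.add_apply, map_add, map_add, hp.2 i j, hq.2 i j]⟩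
  algebraMap_mem' := fun a => ⟨fun i => by
      show T.ψ _ (algebraMap T.A (T.E _) a) = algebraMap T.C _ (algebraMap T.A T.C a)
      rw [AlgHom.commutes, ← IsScalarTower.algebraMap_apply],
    fun i j => by
      show T.ρ _ (algebraMap T.A (T.E _) a) = T.ρ _ (algebraMap T.A (T.E _) a)
      rw [AlgHom.commutes, AlgHom.commutes]⟩

/-- The projection to `C`. -/
noncomputable def pC : T.B →ₐ[T.A] T.C := (AlgHom.fst T.A T.C _).comp T.B.val

/-- The projection to a lift. -/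
noncomputable def pE (i : Fin T.r) : T.B →ₐ[T.A] T.E (T.k1 i) :=
  (Pi.evalAlgHom T.A (fun i => T.E (T.k1 i)) i).comp ((AlgHom.snd T.A T.C _).comp T.B.val)

theorem B_ψ (b : T.B) (i : Fin T.r) :
    T.ψ (T.k1 i) (T.pE i b) = algebraMap T.C (T.CL (T.k1 i)) (T.pC b) := b.2.1 i

theorem B_ρ (b : T.B) (i j : Fin T.r) :
    T.ρ (T.k1_left i j) (T.pE i b) = T.ρ (T.k1_right i j) (T.pE j b) := b.2.2 i j

theorem B_ext {b b' : T.B} (hC : T.pC b = T.pC b') (hE : ∀ i, T.pE i b = T.pE i b') : b = b' :=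
  Subtype.ext (Prod.ext hC (funext hE))

theorem B₀_ext {x x' : T.B₀} (hC : algebraMap T.B₀ T.C₀ x = algebraMap T.B₀ T.C₀ x')
    (hE : ∀ i, algebraMap T.B₀ (T.BL (T.k1 i)) x = algebraMap T.B₀ (T.BL (T.k1 i)) x') : x = x' := by
  rw [← sub_eq_zero]
  obtain ⟨k, hk⟩ := T.DB.torsion_ker_loc (m := x - x') (funext fun i => by
    show algebraMap T.B₀ (T.BL (T.k1 i)) (x - x') = 0
    rw [map_sub, hE i, sub_self])
  refine T.isoB.eq_zero k _ hk ?_
  apply (TensorProduct.rid T.B₀ T.C₀).injective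
  rw [TensorProduct.rid_tmul, map_zero, Algebra.smul_def, mul_one, map_sub, hC, sub_self]

theorem exists_toB₀ (b : T.B) : ∃ x : T.B₀, algebraMap T.B₀ T.C₀ x = T.red.π (T.pC b) ∧
    ∀ i, algebraMap T.B₀ (T.BL (T.k1 i)) x = (T.P (T.k1 i)).π (T.pE i b) := by
  let n : T.DB.P0 := fun i => (T.P (T.k1 i)).π (T.pE i b)
  have hn : T.DB.d n = 0 := by
    funext ⟨i, j⟩
    rw [LocSys.d_apply, T.DB_res (T.k1_left i j), T.DB_res (T.k1_right i j)]
    show T.ρ₀ _ ((T.P (T.k1 i)).π _) - T.ρ₀ _ ((T.P (T.k1 j)).π _) = 0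
    have h1 := T.P_natural (T.k1_left i j) (T.pE i b)
    have h2 := T.P_natural (T.k1_right i j) (T.pE j b)
    rw [AlgHom.restrictScalars_apply] at h1 h2
    rw [← h1, ← h2, T.B_ρ, sub_self]
  have hy : T.DB.loc.lTensor T.C₀ (T.red.π (T.pC b) ⊗ₜ[T.B₀] (1 : T.B₀)) = (1 : T.C₀) ⊗ₜ[T.B₀] n := by
    refine pi_tensor_ext fun i => ?_
    rw [LinearMap.lTensor_tmul, LinearMap.lTensor_tmul, LinearMap.lTensor_tmul]
    show T.red.π (T.pC b) ⊗ₜ[T.B₀] algebraMap T.B₀ (T.BL (T.k1 i)) 1 =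
      (1 : T.C₀) ⊗ₜ[T.B₀] (T.P (T.k1 i)).π (T.pE i b)
    rw [map_one, ← T.Q_ψ, T.B_ψ, T.Q_apply, Algebra.TensorProduct.algebraMap_apply,
      Algebra.algebraMap_self, RingHom.id_apply]
  obtain ⟨x, hx, hxn⟩ := T.DB.glue T.isoB hn hy
  refine ⟨x, ?_, fun i => congrFun hxn i⟩
  have := congrArg (TensorProduct.rid T.B₀ T.C₀) hx
  rwa [TensorProduct.rid_tmul, TensorProduct.rid_tmul, one_smul, Algebra.smul_def, mul_one] at this

/-- The reduction map of the glued algebra. -/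
noncomputable def toB₀ : T.B →ₐ[T.A] T.B₀ where
  toFun b := (T.exists_toB₀ b).choose
  map_one' := T.B₀_ext (by rw [(T.exists_toB₀ 1).choose_spec.1, map_one, map_one, map_one])
    fun i => by rw [(T.exists_toB₀ 1).choose_spec.2 i, map_one, map_one, map_one]
  map_mul' b c := T.B₀_ext
    (by rw [(T.exists_toB₀ _).choose_spec.1, map_mul, map_mul, map_mul,
      (T.exists_toB₀ b).choose_spec.1, (T.exists_toB₀ c).choose_spec.1])
    fun i => by rw [(T.exists_toB₀ _).choose_spec.2 i, map_mul, map_mul, map_mul,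
      (T.exists_toB₀ b).choose_spec.2 i, (T.exists_toB₀ c).choose_spec.2 i]
  map_zero' := T.B₀_ext (by rw [(T.exists_toB₀ 0).choose_spec.1, map_zero, map_zero, map_zero])
    fun i => by rw [(T.exists_toB₀ 0).choose_spec.2 i, map_zero, map_zero, map_zero]
  map_add' b c := T.B₀_ext
    (by rw [(T.exists_toB₀ _).choose_spec.1, map_add, map_add, map_add,
      (T.exists_toB₀ b).choose_spec.1, (T.exists_toB₀ c).choose_spec.1])
    fun i => by rw [(T.exists_toB₀ _).choose_spec.2 i, map_add, map_add, map_add,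
      (T.exists_toB₀ b).choose_spec.2 i, (T.exists_toB₀ c).choose_spec.2 i]
  commutes' a := T.B₀_ext
    (by rw [(T.exists_toB₀ _).choose_spec.1, AlgHom.commutes, AlgHom.commutes,
      ← IsScalarTower.algebraMap_apply])
    fun i => by rw [(T.exists_toB₀ _).choose_spec.2 i, AlgHom.commutes, AlgHom.commutes,
      ← IsScalarTower.algebraMap_apply]

theorem toB₀_C (b : T.B) : algebraMap T.B₀ T.C₀ (T.toB₀ b) = T.red.π (T.pC b) :=
  (T.exists_toB₀ b).choose_spec.1

theorem toB₀_E (b : T.B) (i : Fin T.r) :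
    algebraMap T.B₀ (T.BL (T.k1 i)) (T.toB₀ b) = (T.P (T.k1 i)).π (T.pE i b) :=
  (T.exists_toB₀ b).choose_spec.2 i

theorem ρ_μ {x y : T.K} (h : x.1 ∣ y.1) (h' : T.DJ.φ x ∣ T.DJ.φ y) (n : T.BL x ⊗[T.A] T.J) :
    T.ρ h ((T.P x).μ T.hJ n) = (T.P y).μ T.hJ (T.DJ.res h' n) := by
  rw [(T.P x).μ_natural (T.P y) T.hJ (T.ρ h) ((T.ρ₀ h).restrictScalars T.A) (T.P_natural h),
    T.DJ_res h h']

theorem ν_d (δ : T.C₀ ⊗[T.B₀] T.DJ.P0) (i j : Fin T.r) :
    T.ν (T.k2 i j) ((LinearMap.proj (R := T.B₀) (φ := fun p : Fin T.r × Fin T.r => T.DJ.M (T.k2 p.1 p.2))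
        (i, j)).lTensor T.C₀ (T.DJ.d.lTensor T.C₀ δ)) =
      T.σ (T.k1_left i j) (T.ν (T.k1 i) ((LinearMap.proj (R := T.B₀)
          (φ := fun i => T.DJ.M (T.k1 i)) i).lTensor T.C₀ δ)) -
      T.σ (T.k1_right i j) (T.ν (T.k1 j) ((LinearMap.proj (R := T.B₀)
          (φ := fun i => T.DJ.M (T.k1 i)) j).lTensor T.C₀ δ)) := by
  rw [T.σ_ν _ (T.DJ.dvd_left i j), T.σ_ν _ (T.DJ.dvd_right i j), ← map_sub]
  congr 1
  induction δ using TensorProduct.induction_on with
  | zero => simp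
  | tmul s n => simp [LocSys.d_apply, TensorProduct.tmul_sub]
  | add a b ha hb => simp only [map_add, ha, hb]; abel

/-- The reduction map is surjective. -/
theorem toB₀_surjective : Function.Surjective T.toB₀ := by
  intro b₀
  obtain ⟨c, hc⟩ := T.red.surj (algebraMap T.B₀ T.C₀ b₀)
  choose e he using fun i => (T.P (T.k1 i)).surj (algebraMap T.B₀ (T.BL (T.k1 i)) b₀)
  have hdiff : ∀ i, (T.Q (T.k1 i)).π (T.ψ (T.k1 i) (e i) - algebraMap T.C _ c) = 0 := fun i => by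
    rw [map_sub, T.Q_ψ, he, T.Q_apply, hc, Algebra.TensorProduct.algebraMap_apply, Algebra.algebraMap_self,
      RingHom.id_apply, sub_eq_zero]
    exact (Algebra.TensorProduct.tmul_one_eq_one_tmul b₀).symm
  choose z hz using fun i => (T.Q (T.k1 i)).exists_μ T.hJ (hdiff i)
  obtain ⟨δ, hδ⟩ := exists_pi_tensor (R := T.B₀) (S := T.C₀) (M := fun i => T.DJ.M (T.k1 i))
    fun i => (T.α (T.k1 i)).symm (z i)
  have hνδ : ∀ i, T.ν (T.k1 i) ((LinearMap.proj (R := T.B₀) (φ := fun i => T.DJ.M (T.k1 i)) i).lTensor T.C₀ δ) =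
      T.ψ (T.k1 i) (e i) - algebraMap T.C _ c := fun i => by
    rw [hδ i, ← hz i]
    exact congrArg ((T.Q (T.k1 i)).μ T.hJ) ((T.α (T.k1 i)).apply_symm_apply _)
  have hdiff2 : ∀ p : Fin T.r × Fin T.r, (T.P (T.k2 p.1 p.2)).π
      (T.ρ (T.k1_left p.1 p.2) (e p.1) - T.ρ (T.k1_right p.1 p.2) (e p.2)) = 0 := fun p => by
    rw [map_sub, T.P_natural, T.P_natural, he, he, AlgHom.restrictScalars_apply,
      AlgHom.restrictScalars_apply, AlgHom.commutes, AlgHom.commutes, sub_self]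
  let ε : T.DJ.P1 := fun p =>
    Classical.choose ((T.P (T.k2 p.1 p.2)).exists_μ T.hJ (hdiff2 p))
  have hε : ∀ p : Fin T.r × Fin T.r, (T.P (T.k2 p.1 p.2)).μ T.hJ (ε p) =
      T.ρ (T.k1_left p.1 p.2) (e p.1) - T.ρ (T.k1_right p.1 p.2) (e p.2) := fun p =>
    Classical.choose_spec ((T.P (T.k2 p.1 p.2)).exists_μ T.hJ (hdiff2 p))
  clear_value ε
  have htor : TorsionMod T.DJ.ideal (LinearMap.range T.DJ.d) ε := by
    refine T.DJ.torsion_cocycle ε fun i j l h1 h2 h3 => T.μE_injective (T.k3 i j l) ?_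
    have d1 : (T.k2 i j).1 ∣ (T.k3 i j l).1 := dvd_mul_right _ _
    have d2 : (T.k2 i l).1 ∣ (T.k3 i j l).1 := ⟨T.a j, by simp only [k2, k3]; ring⟩
    have d3 : (T.k2 j l).1 ∣ (T.k3 i j l).1 := ⟨T.a i, by simp only [k2, k3]; ring⟩
    rw [map_sub, ← T.ρ_μ d1 h1, ← T.ρ_μ d2 h2, ← T.ρ_μ d3 h3, hε (i, j), hε (i, l), hε (j, l),
      map_sub, map_sub, map_sub, T.ρ_trans, T.ρ_trans, T.ρ_trans, T.ρ_trans, T.ρ_trans, T.ρ_trans]
    abel
  have hδε : T.DJ.d.lTensor T.C₀ δ = (1 : T.C₀) ⊗ₜ[T.B₀] ε := by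
    refine pi_tensor_ext fun p => ?_
    apply T.ν_injective (T.k2 p.1 p.2)
    rw [T.ν_d δ p.1 p.2, hνδ, hνδ, LinearMap.lTensor_tmul, LinearMap.proj_apply, T.ν_one_tmul, hε p,
      map_sub, map_sub, map_sub, T.σ_ψ, T.σ_ψ, AlgHom.commutes, AlgHom.commutes]
    abel
  obtain ⟨y, n, hn, hδn⟩ := T.DJ.correct T.isoJ htor hδε
  have hmem : ((c + T.νC y, fun i => e i - (T.P (T.k1 i)).μ T.hJ (n i)) :
      T.C × ∀ i, T.E (T.k1 i)) ∈ T.B := by
    refine ⟨fun i => ?_, fun i j => ?_⟩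
    · show T.ψ _ (e i - _) = algebraMap T.C _ (c + T.νC y)
      have h1 := hνδ i
      rw [hδn, map_add, map_add, LinearMap.lTensor_tmul, LinearMap.proj_apply, T.ν_one_tmul] at h1
      have h2 : (LinearMap.proj (R := T.B₀) (φ := fun i => T.DJ.M (T.k1 i)) i).lTensor T.C₀
          (T.DJ.loc.lTensor T.C₀ y) = (T.DJ.g (T.k1 i)).lTensor T.C₀ y := by
        rw [← LinearMap.comp_apply, ← LinearMap.lTensor_comp]
        rfl
      rw [h2, ← T.ℓ_νC, eq_sub_iff_add_eq] at h1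
      rw [map_sub, map_add, ← h1]
      abel
    · show T.ρ _ (e i - _) = T.ρ _ (e j - _)
      have h1 : (T.P (T.k2 i j)).μ T.hJ (T.DJ.d n (i, j)) =
          T.ρ (T.k1_left i j) (e i) - T.ρ (T.k1_right i j) (e j) := by
        rw [hn]
        exact hε (i, j)
      rw [LocSys.d_apply, map_sub, ← T.ρ_μ (T.k1_left i j), ← T.ρ_μ (T.k1_right i j)] at h1
      rw [map_sub, map_sub, sub_eq_sub_iff_sub_eq_sub]
      exact h1.symm
  refine ⟨⟨_, hmem⟩, T.B₀_ext ?_ fun i => ?_⟩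
  · rw [T.toB₀_C]
    show T.red.π (c + T.νC y) = _
    rw [map_add, hc, show T.red.π (T.νC y) = 0 from T.red.π_μ T.hJ _, add_zero]
  · rw [T.toB₀_E]
    show (T.P _).π (e i - _) = _
    rw [map_sub, he, (T.P (T.k1 i)).π_μ, sub_zero]

theorem exists_Φ (x : T.B₀ ⊗[T.A] T.J) : ∃ e ∈ T.J.map (algebraMap T.A T.B),
    T.pC e = T.νC ((1 : T.C₀) ⊗ₜ[T.B₀] x) ∧
      ∀ i, T.pE i e = (T.P (T.k1 i)).μ T.hJ (T.DJ.g (T.k1 i) x) := by
  induction x using TensorProduct.induction_on with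
  | zero => exact ⟨0, zero_mem _, by simp, fun i => by simp⟩
  | tmul b j =>
    obtain ⟨bt, rfl⟩ := T.toB₀_surjective b
    refine ⟨algebraMap T.A T.B j * bt, Ideal.mul_mem_right _ _ (Ideal.mem_map_of_mem _ j.2), ?_, fun i => ?_⟩
    · show _ = T.red.μ T.hJ ((T.toB₀ bt • (1 : T.C₀)) ⊗ₜ[T.A] j)
      rw [Algebra.smul_def, mul_one, T.toB₀_C, T.red.μ_tmul, map_mul, AlgHom.commutes]
    · show _ = (T.P (T.k1 i)).μ T.hJ (algebraMap T.B₀ (T.BL (T.k1 i)) (T.toB₀ bt) ⊗ₜ[T.A] j)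
      rw [T.toB₀_E, (T.P _).μ_tmul, map_mul, AlgHom.commutes]
  | add a b ha hb =>
    obtain ⟨ea, h1, h2, h3⟩ := ha
    obtain ⟨eb, k1, k2, k3⟩ := hb
    exact ⟨ea + eb, add_mem h1 k1, by rw [map_add, h2, k2, TensorProduct.tmul_add, map_add],
      fun i => by rw [map_add, h3, k3, map_add, map_add]⟩

theorem ker_toB₀ : RingHom.ker T.toB₀.toRingHom = T.J.map (algebraMap T.A T.B) := by
  refine le_antisymm (fun b hb => ?_) (Ideal.map_le_iff_le_comap.mpr fun j hj => ?_)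
  · replace hb : T.toB₀ b = 0 := hb
    have hc : T.red.π (T.pC b) = 0 := by rw [← T.toB₀_C, hb, map_zero]
    obtain ⟨y', hy'⟩ := T.red.exists_μ T.hJ hc
    let y := (TensorProduct.AlgebraTensorModule.cancelBaseChange T.A T.B₀ T.B₀ T.C₀ T.J).symm y'
    have hy : T.νC y = T.pC b := by
      rw [← hy']
      exact congrArg (T.red.μ T.hJ) (LinearEquiv.apply_symm_apply _ _)
    have hE : ∀ i, (T.P (T.k1 i)).π (T.pE i b) = 0 := fun i => by rw [← T.toB₀_E, hb, map_zero]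
    choose n hn using fun i => (T.P (T.k1 i)).exists_μ T.hJ (hE i)
    have hdn : T.DJ.d n = 0 := by
      funext ⟨i, j⟩
      apply T.μE_injective (T.k2 i j)
      rw [LocSys.d_apply, map_sub, ← T.ρ_μ (T.k1_left i j), ← T.ρ_μ (T.k1_right i j), hn, hn, T.B_ρ,
        sub_self]
      exact (map_zero _).symm
    have hloc : T.DJ.loc.lTensor T.C₀ y = (1 : T.C₀) ⊗ₜ[T.B₀] n := by
      refine pi_tensor_ext fun i => ?_
      apply T.ν_injective (T.k1 i)
      rw [← LinearMap.comp_apply (f := (LinearMap.proj i).lTensor T.C₀), ← LinearMap.lTensor_comp,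
        LinearMap.lTensor_tmul, LinearMap.proj_apply, T.ν_one_tmul, hn, T.B_ψ, ← hy, T.ℓ_νC]
      rfl
    obtain ⟨x, hx, hxn⟩ := T.DJ.glue T.isoJ hdn hloc
    obtain ⟨e, he, heC, heE⟩ := T.exists_Φ x
    have : b = e := T.B_ext (by rw [heC, hx, hy]) fun i => by
      rw [heE i, ← hn i, ← congrFun hxn i]
      rfl
    exact this ▸ he
  · rw [Ideal.mem_comap, RingHom.mem_ker]
    show T.toB₀ (algebraMap T.A T.B j) = 0
    rw [AlgHom.commutes, IsScalarTower.algebraMap_apply T.A (T.A ⧸ T.J) T.B₀,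
      Ideal.Quotient.algebraMap_eq, Ideal.Quotient.eq_zero_iff_mem.mpr hj, map_zero]

theorem finiteType [Algebra.FiniteType T.A T.B₀] : Algebra.FiniteType T.A T.B := by
  classical
  obtain ⟨s, hs⟩ := ‹Algebra.FiniteType T.A T.B₀›.out
  choose l hl using T.toB₀_surjective
  refine ⟨⟨s.image l, eq_top_iff.mpr ?_⟩⟩
  let B' := Algebra.adjoin T.A (↑(s.image l) : Set T.B)
  have hlift : ∀ b : T.B, ∃ b' ∈ B', b - b' ∈ T.J.map (algebraMap T.A T.B) := by
    intro b
    have hmem : T.toB₀ b ∈ B'.map T.toB₀ := by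
      rw [show B'.map T.toB₀ = ⊤ by
        rw [AlgHom.map_adjoin, ← hs]
        congr 1
        rw [Finset.coe_image, ← Set.image_comp]
        exact (Set.image_congr fun x _ => hl x).trans (Set.image_id _)]
      exact trivial
    obtain ⟨b', hb', hbb⟩ := hmem
    refine ⟨b', hb', ?_⟩
    rw [← T.ker_toB₀, RingHom.mem_ker, map_sub, sub_eq_zero]
    exact hbb.symm
  have hJB : ∀ j ∈ T.J, ∀ z ∈ T.J.map (algebraMap T.A T.B), algebraMap T.A T.B j * z = 0 := by
    intro j hj z hz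
    refine Submodule.span_induction (p := fun x _ => algebraMap T.A T.B j * x = 0) ?_ (mul_zero _) ?_ ?_ hz
    · rintro _ ⟨b, hb, rfl⟩
      rw [← map_mul, T.hJ j hj b hb, map_zero]
    · intro a b _ _ ha hb
      rw [mul_add, ha, hb, add_zero]
    · intro t a _ ha
      rw [smul_eq_mul, mul_left_comm, ha, mul_zero]
  have hJ' : ∀ z ∈ T.J.map (algebraMap T.A T.B), z ∈ B' := by
    intro z hz
    refine Submodule.span_induction (p := fun z _ => ∀ t : T.B, t * z ∈ B') ?_ ?_ ?_ ?_ hz 1 |> fun h => by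
      rwa [one_mul] at h
    · rintro _ ⟨j, hj, rfl⟩ t
      obtain ⟨t', ht', htt⟩ := hlift t
      rw [show t * algebraMap T.A T.B j = t' * algebraMap T.A T.B j + algebraMap T.A T.B j * (t - t') by ring,
        hJB j hj _ htt, add_zero]
      exact B'.mul_mem ht' (B'.algebraMap_mem j)
    · intro t
      rw [mul_zero]
      exact B'.zero_mem
    · intro a b _ _ ha hb t
      rw [mul_add]
      exact B'.add_mem (ha t) (hb t)
    · intro c a _ ha t
      rw [smul_eq_mul, ← mul_assoc]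
      exact ha _
  intro b _
  obtain ⟨b', hb', hbb⟩ := hlift b
  rw [← sub_add_cancel b b']
  exact B'.add_mem (hJ' _ hbb) hb'

theorem isUnit_pE (i : Fin T.r) : IsUnit (algebraMap T.A (T.E (T.k1 i)) (T.a i)) := by
  have hu : IsUnit ((T.P (T.k1 i)).π (algebraMap T.A (T.E (T.k1 i)) (T.a i))) := by
    rw [AlgHom.commutes, IsScalarTower.algebraMap_apply T.A T.B₀ (T.BL (T.k1 i))]
    exact IsLocalization.Away.algebraMap_isUnit (T.φ (T.k1 i))
  obtain ⟨v, hv⟩ := (T.P (T.k1 i)).surj ↑hu.unit⁻¹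
  obtain ⟨N, hN⟩ := (T.P (T.k1 i)).isNilpotent_ker T.hJ
  have hmem : algebraMap T.A (T.E (T.k1 i)) (T.a i) * v - 1 ∈ RingHom.ker (T.P (T.k1 i)).π.toRingHom := by
    rw [RingHom.mem_ker]
    show (T.P (T.k1 i)).π _ = 0
    rw [map_sub, map_mul, map_one, hv, IsUnit.mul_val_inv, sub_self]
  have hnil : IsNilpotent (algebraMap T.A (T.E (T.k1 i)) (T.a i) * v - 1) :=
    ⟨N, by have := Ideal.pow_mem_pow hmem N; rw [hN] at this; exact this⟩
  have := hnil.isUnit_add_one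
  rw [sub_add_cancel] at this
  exact isUnit_of_mul_isUnit_left this

theorem isLocalization_pE (i : Fin T.r) :
    letI := (T.pE i).toRingHom.toAlgebra
    IsLocalization.Away (algebraMap T.A T.B (T.a i)) (T.E (T.k1 i)) := by
  letI := (T.pE i).toRingHom.toAlgebra
  have hcomm : ∀ n : ℕ, T.pE i (algebraMap T.A T.B (T.a i) ^ n) = algebraMap T.A _ (T.a i) ^ n :=
    fun n => by rw [map_pow, AlgHom.commutes]
  refine ⟨?_, ?_, ?_⟩
  · rintro ⟨_, n, rfl⟩
    show IsUnit (T.pE i (algebraMap T.A T.B (T.a i) ^ n))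
    rw [hcomm]
    exact (T.isUnit_pE i).pow n
  · intro e
    obtain ⟨k, b₀, hk⟩ := IsLocalization.Away.surj (T.φ (T.k1 i)) ((T.P (T.k1 i)).π e)
    obtain ⟨b, rfl⟩ := T.toB₀_surjective b₀
    rw [T.toB₀_E] at hk
    have h0 : (T.P (T.k1 i)).π (algebraMap T.A _ (T.a i) ^ k * e - T.pE i b) = 0 := by
      rw [map_sub, map_mul, map_pow, AlgHom.commutes, ← hk, mul_comm, sub_eq_zero,
        IsScalarTower.algebraMap_apply T.A T.B₀ (T.BL (T.k1 i))]
      rfl
    obtain ⟨z, hz⟩ := (T.P (T.k1 i)).exists_μ T.hJ h0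
    obtain ⟨p, x, hx⟩ := T.DJ.exists_pow (x := T.k1 i) z
    obtain ⟨ex, -, -, hexE⟩ := T.exists_Φ x
    have hmul : T.pE i ex = algebraMap T.A _ (T.a i) ^ p * (T.P (T.k1 i)).μ T.hJ z := by
      have h1 : T.DJ.φ (T.k1 i) ^ p • z = (T.a i ^ p : T.A) • z := by
        rw [← algebraMap_smul T.B₀ (T.a i ^ p) z, map_pow]
        rfl
      rw [hexE i, ← hx, h1, map_smul, Algebra.smul_def, map_pow]
    refine ⟨(algebraMap T.A T.B (T.a i) ^ p * b + ex, ⟨_, p + k, rfl⟩), ?_⟩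
    show e * T.pE i (algebraMap T.A T.B (T.a i) ^ (p + k)) = T.pE i (_ + ex)
    rw [hcomm, map_add, map_mul, hcomm, hmul, hz, pow_add]
    ring
  · intro b b' h
    change T.pE i b = T.pE i b' at h
    have hd : T.pE i (b - b') = 0 := by rw [map_sub, h, sub_self]
    generalize hdd : b - b' = d at hd
    have hC : ∃ k, algebraMap T.A T.C (T.a i) ^ k * T.pC d = 0 := by
      have h1 : algebraMap T.C (T.CL (T.k1 i)) (T.pC d) = 0 := by rw [← T.B_ψ, hd, map_zero]
      obtain ⟨⟨_, k, rfl⟩, hk⟩ :=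
        (IsLocalization.map_eq_zero_iff (Submonoid.powers (algebraMap T.A T.C (T.k1 i).1)) _ _).mp h1
      exact ⟨k, hk⟩
    have hEj : ∀ j, ∃ k, algebraMap T.A _ (T.a i) ^ k * T.pE j d = 0 := by
      intro j
      have h1 : T.ρ (T.k1_left j i) (T.pE j d) = 0 := by rw [T.B_ρ, hd, map_zero]
      have h2 : T.DB.res (T.DB.dvd_left j i) ((T.P (T.k1 j)).π (T.pE j d)) = 0 := by
        rw [T.DB_res (T.k1_left j i), ← AlgHom.restrictScalars_apply T.A, ← T.P_natural, h1, map_zero]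
      obtain ⟨p, hp⟩ := T.DB.exists_kill (x := T.k1 j) (y := T.k2 j i) _ (T.DB.hk2 j i) h2
      have h3 : (T.P (T.k1 j)).π (algebraMap T.A _ (T.a i) ^ p * T.pE j d) = 0 := by
        rw [map_mul, map_pow, AlgHom.commutes, IsScalarTower.algebraMap_apply T.A T.B₀ (T.BL (T.k1 j)),
          ← map_pow, ← Algebra.smul_def]
        exact hp
      obtain ⟨z, hz⟩ := (T.P (T.k1 j)).exists_μ T.hJ h3
      have h4 : T.DJ.res (T.DJ.dvd_left j i) z = 0 := by
        apply T.μE_injective (T.k2 j i)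
        rw [← T.ρ_μ (T.k1_left j i), hz, map_mul, h1, mul_zero]
        exact (map_zero _).symm
      obtain ⟨q, hq⟩ := T.DJ.exists_kill (x := T.k1 j) (y := T.k2 j i) _ (T.DJ.hk2 j i) h4
      refine ⟨q + p, ?_⟩
      rw [pow_add, mul_assoc, ← hz, ← map_pow, ← Algebra.smul_def, ← map_smul]
      have h5 : T.a i ^ q • z = 0 := by
        rw [← algebraMap_smul T.B₀ (T.a i ^ q) z, map_pow]
        exact hq
      rw [h5, map_zero]
    obtain ⟨k₀, hk₀⟩ := hC
    choose k hk using hEj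
    refine ⟨⟨_, k₀ + ∑ j, k j, rfl⟩, ?_⟩
    show algebraMap T.A T.B (T.a i) ^ _ * b = algebraMap T.A T.B (T.a i) ^ _ * b'
    rw [← sub_eq_zero, ← mul_sub, hdd]
    refine T.B_ext ?_ fun j => ?_
    · rw [map_mul, map_pow, AlgHom.commutes, map_zero, pow_add, mul_comm (_ ^ k₀), mul_assoc, hk₀, mul_zero]
    · obtain ⟨e', he'⟩ := Nat.exists_eq_add_of_le
        (Finset.single_le_sum (f := k) (fun l _ => Nat.zero_le _) (Finset.mem_univ j))
      rw [map_mul, map_pow, AlgHom.commutes, map_zero, he', show k₀ + (k j + e') = (k₀ + e') + k j by omega,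
        pow_add, mul_assoc, hk, mul_zero]

end Data

end Groth.L05.EtaleApprox
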