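import Groth.Agent.L05.EtaleApprox.Main
import Mathlib.RingTheory.TensorProduct.Quotient
import Mathlib.RingTheory.Localization.Ideal

/-!
# Lifting approximations along a nilpotent ideal
-/

set_option autoImplicit false
set_option linter.style.haveILetI false
set_option backward.isDefEq.respectTransparency.types false
set_option backward.isDefEq.respectTransparency false

universe u

open scoped TensorProduct

namespace Groth.L05.EtaleApprox

/-- Reduction preserves étaleness away from an element. -/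
theorem etale_quotient_away (A : Type u) [CommRing A] (J : Ideal A) (C : Type u) [CommRing C]
    [Algebra A C] (a : A) [Algebra.Etale A (Localization.Away (algebraMap A C a))] :
    Algebra.Etale (A ⧸ J)
      (Localization.Away (algebraMap A (C ⧸ J.map (algebraMap A C)) a)) := by
  let L := Localization.Away (algebraMap A C a)
  haveI : Algebra.Etale (A ⧸ J) (L ⧸ J.map (algebraMap A L)) :=
    Algebra.Etale.of_equiv (Algebra.TensorProduct.quotIdealMapEquivQuotTensor L J).symm
  have hle : J.map (algebraMap A C) ≤ (J.map (algebraMap A L)).comap (algebraMap C L) := by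
    rw [← Ideal.map_le_iff_le_comap, Ideal.map_map, ← IsScalarTower.algebraMap_eq]
  letI : Algebra (C ⧸ J.map (algebraMap A C)) (L ⧸ J.map (algebraMap A L)) :=
    (Ideal.quotientMap _ (algebraMap C L) hle).toAlgebra
  haveI : IsScalarTower (A ⧸ J) (C ⧸ J.map (algebraMap A C)) (L ⧸ J.map (algebraMap A L)) :=
    IsScalarTower.of_algebraMap_eq fun x => by
      obtain ⟨x, rfl⟩ := Ideal.Quotient.mk_surjective x
      show Ideal.Quotient.mk _ (algebraMap A L x) = Ideal.Quotient.mk _ (algebraMap C L (algebraMap A C x))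
      rw [← IsScalarTower.algebraMap_apply]
  haveI : IsLocalization.Away (algebraMap A (C ⧸ J.map (algebraMap A C)) a)
      (L ⧸ J.map (algebraMap A L)) := by
    have h := IsLocalization.of_surjective (Submonoid.powers (algebraMap A C a)) L
      (Ideal.Quotient.mk (J.map (algebraMap A C))) Ideal.Quotient.mk_surjective
      (Ideal.Quotient.mk (J.map (algebraMap A L))) Ideal.Quotient.mk_surjective
      (R' := C ⧸ J.map (algebraMap A C)) (S' := L ⧸ J.map (algebraMap A L)) rfl
      (by rw [Ideal.mk_ker, Ideal.mk_ker, Ideal.map_map, ← IsScalarTower.algebraMap_eq])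
    rw [Submonoid.map_powers] at h
    exact h
  exact Algebra.Etale.of_equiv ((IsLocalization.algEquiv
    (Submonoid.powers (algebraMap A (C ⧸ J.map (algebraMap A C)) a))
    (L ⧸ J.map (algebraMap A L)) _).restrictScalars (A ⧸ J))

/-- An étale map which is bijective modulo `I + J` is bijective modulo `I` when `J` is nilpotent. -/
theorem isoMod_of_nilpotent {R S : Type u} [CommRing R] [CommRing S] [Algebra R S] [Module.Flat R S]
    {I J : Ideal R} {k : ℕ} (hJ : J ^ k = ⊥) (h : IsoMod (I ⊔ J) S) : IsoMod I S := by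
  have hle : (I ⊔ J) ^ (1 + k) ≤ I :=
    Ideal.sup_pow_add_le_pow_sup_pow.trans (by rw [pow_one, hJ, sup_bot_eq])
  refine ⟨fun s => ?_, fun r hr => ?_⟩
  · obtain ⟨r, hr⟩ := h.surj_pow (1 + k) s
    exact ⟨r, Ideal.map_mono hle hr⟩
  · rw [← Ideal.Quotient.eq_zero_iff_mem]
    refine h.eq_zero (W := R ⧸ I) (1 + k) (Ideal.Quotient.mk I r) (fun a ha => ?_) ?_
    · show Ideal.Quotient.mk I (a * r) = 0
      exact Ideal.Quotient.eq_zero_iff_mem.mpr (Ideal.mul_mem_right _ _ (hle ha))
    · apply (Algebra.TensorProduct.quotIdealMapEquivTensorQuot S I).symm.injective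
      rw [map_zero]
      show (Algebra.TensorProduct.quotIdealMapEquivTensorQuot S I).symm ((1 : S) ⊗ₜ[R] Ideal.Quotient.mk I r) = 0
      rw [Algebra.TensorProduct.quotIdealMapEquivTensorQuot_symm_tmul]
      show Ideal.Quotient.mk _ (r • (1 : S)) = 0
      rwa [Ideal.Quotient.eq_zero_iff_mem, Algebra.smul_def, mul_one]

/-- Lifting along a nilpotent thickening, by induction on the order of nilpotence. -/
theorem exists_lift_aux (n : ℕ) : ∀ (A A₀ C C₀ B₀ : Type u) [CommRing A] [CommRing A₀] [CommRing C]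
    [CommRing C₀] [CommRing B₀] [IsNoetherianRing A] [Algebra A A₀] [Algebra A C] [Algebra A C₀]
    [Algebra A B₀] [Algebra A₀ B₀] [IsScalarTower A A₀ B₀] (I : Ideal A),
    Function.Surjective (algebraMap A A₀) → RingHom.ker (algebraMap A A₀) ^ (n + 1) = ⊥ →
    (∀ a ∈ I, Algebra.Etale A (Localization.Away (algebraMap A C a))) →
    Algebra.FiniteType A B₀ →
    (∀ a ∈ I, Algebra.Etale A₀ (Localization.Away (algebraMap A B₀ a))) →
    ∀ (π : C →ₐ[A] C₀), Function.Surjective π →
    RingHom.ker π.toRingHom = (RingHom.ker (algebraMap A A₀)).map (algebraMap A C) →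
    ∀ (f : B₀ →ₐ[A] C₀), f.toRingHom.Etale →
    (∀ c, ∃ b, c - f b ∈ I.map (algebraMap A C₀)) →
    (∀ b, f b ∈ I.map (algebraMap A C₀) → b ∈ I.map (algebraMap A B₀)) →
    ∃ (B : Type u) (_ : CommRing B) (_ : Algebra A B) (p : B →ₐ[A] B₀) (q : B →ₐ[A] C),
      Algebra.FiniteType A B ∧ q.toRingHom.Etale ∧
      (∀ a ∈ I, Algebra.Etale A (Localization.Away (algebraMap A B a))) ∧
      Function.Surjective p ∧
      RingHom.ker p.toRingHom = (RingHom.ker (algebraMap A A₀)).map (algebraMap A B) ∧
      ∀ b, f (p b) = π (q b) := by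
  induction n with
  | zero =>
    intro A A₀ C C₀ B₀ _ _ _ _ _ _ _ _ _ _ _ _ I hA hJ hC hB hBe π hπ hπk f hf _ _
    rw [zero_add, pow_one] at hJ
    have hπi : Function.Injective π := by
      rw [hJ, Ideal.map_bot] at hπk
      exact (RingHom.injective_iff_ker_eq_bot π.toRingHom).mpr hπk
    let e := AlgEquiv.ofBijective π ⟨hπi, hπ⟩
    haveI : Algebra.Etale A A₀ :=
      Algebra.Etale.of_equiv (AlgEquiv.ofBijective (Algebra.ofId A A₀)
        ⟨(RingHom.injective_iff_ker_eq_bot _).mpr hJ, hA⟩)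
    refine ⟨B₀, inferInstance, inferInstance, AlgHom.id A B₀, e.symm.toAlgHom.comp f, hB, ?_, ?_,
      fun b => ⟨b, rfl⟩, ?_, fun b => (e.apply_symm_apply (f b)).symm⟩
    · exact RingHom.Etale.stableUnderComposition f.toRingHom e.symm.toAlgHom.toRingHom hf
        (RingHom.Etale.of_bijective (f := e.symm.toAlgHom.toRingHom) e.symm.bijective)
    · intro a ha
      haveI := hBe a ha
      exact Algebra.Etale.comp A A₀ _
    · rw [hJ, Ideal.map_bot]
      exact (RingHom.injective_iff_ker_eq_bot (AlgHom.id A B₀).toRingHom).mp fun _ _ h => h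
  | succ n ih =>
    intro A A₀ C C₀ B₀ _ _ _ _ _ _ _ _ _ _ _ _ I hA hJ hC hB hBe π hπ hπk f hf hs hi
    set J := RingHom.ker (algebraMap A A₀) with hJdef
    set J' := J ^ (n + 1) with hJ'def
    have hJ'J : J' ≤ J := Ideal.pow_le_self (Nat.succ_ne_zero n)
    have hJ'2 : ∀ a ∈ J', ∀ b ∈ J', a * b = 0 := fun a ha b hb => by
      rw [← Ideal.mem_bot, ← hJ, pow_succ]
      exact Ideal.mul_mem_mul ha (hJ'J hb)
    let toA₀ : (A ⧸ J') →ₐ[A] A₀ := Ideal.Quotient.liftₐ J' (Algebra.ofId A A₀) fun a ha => hJ'J ha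
    letI : Algebra (A ⧸ J') A₀ := toA₀.toRingHom.toAlgebra
    haveI : IsScalarTower A (A ⧸ J') A₀ := IsScalarTower.of_algebraMap_eq fun a => (toA₀.commutes a).symm
    letI : Algebra (A ⧸ J') B₀ := ((algebraMap A₀ B₀).comp (algebraMap (A ⧸ J') A₀)).toAlgebra
    haveI : IsScalarTower (A ⧸ J') A₀ B₀ := IsScalarTower.of_algebraMap_eq fun _ => rfl
    haveI : IsScalarTower A (A ⧸ J') B₀ := IsScalarTower.of_algebraMap_eq fun a => by
      rw [IsScalarTower.algebraMap_apply (A ⧸ J') A₀ B₀, ← IsScalarTower.algebraMap_apply A (A ⧸ J') A₀,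
        ← IsScalarTower.algebraMap_apply A A₀ B₀]
    have hπ0 : ∀ x ∈ J'.map (algebraMap A C), π x = 0 := fun x hx =>
      (hπk ▸ Ideal.map_mono hJ'J hx : x ∈ RingHom.ker π.toRingHom)
    let π₁ : (C ⧸ J'.map (algebraMap A C)) →ₐ[A] C₀ := Ideal.Quotient.liftₐ _ π hπ0
    letI : Algebra (A ⧸ J') C₀ :=
      (π₁.toRingHom.comp (algebraMap (A ⧸ J') (C ⧸ J'.map (algebraMap A C)))).toAlgebra
    haveI : IsScalarTower A (A ⧸ J') C₀ := IsScalarTower.of_algebraMap_eq fun a => by
      show _ = π₁ (algebraMap (A ⧸ J') (C ⧸ J'.map (algebraMap A C)) (algebraMap A (A ⧸ J') a))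
      rw [← IsScalarTower.algebraMap_apply, AlgHom.commutes]
    let π' : (C ⧸ J'.map (algebraMap A C)) →ₐ[A ⧸ J'] C₀ :=
      { π₁.toRingHom with commutes' := fun _ => rfl }
    let f' : B₀ →ₐ[A ⧸ J'] C₀ :=
      AlgHom.extendScalarsOfSurjective Ideal.Quotient.mk_surjective f
    have hker : RingHom.ker (algebraMap (A ⧸ J') A₀) = J.map (Ideal.Quotient.mk J') := by
      show RingHom.ker (Ideal.Quotient.lift J' _ _) = _
      rw [Ideal.ker_quotient_lift]
      rfl
    have hIC₀ : (I.map (Ideal.Quotient.mk J')).map (algebraMap (A ⧸ J') C₀) = I.map (algebraMap A C₀) := by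
      rw [Ideal.map_map, IsScalarTower.algebraMap_eq A (A ⧸ J') C₀]
      rfl
    have hIB₀ : (I.map (Ideal.Quotient.mk J')).map (algebraMap (A ⧸ J') B₀) = I.map (algebraMap A B₀) := by
      rw [Ideal.map_map, IsScalarTower.algebraMap_eq A (A ⧸ J') B₀]
      rfl
    obtain ⟨B', _, _, p', q', hB', hq', hBe', hp', hpk', hcompat⟩ :=
      ih (A ⧸ J') A₀ (C ⧸ J'.map (algebraMap A C)) C₀ B₀ (I.map (Ideal.Quotient.mk J'))
        (fun x => by
          obtain ⟨a, rfl⟩ := hA x
          exact ⟨algebraMap A (A ⧸ J') a, (IsScalarTower.algebraMap_apply A (A ⧸ J') A₀ a).symm⟩)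
        (by rw [hker, ← Ideal.map_pow, ← hJ'def, Ideal.map_quotient_self])
        (fun a' ha' => by
          obtain ⟨a, ha, rfl⟩ :=
            (Ideal.mem_map_iff_of_surjective _ Ideal.Quotient.mk_surjective).mp ha'
          haveI := hC a ha
          rw [← Ideal.Quotient.algebraMap_eq, ← IsScalarTower.algebraMap_apply]
          exact etale_quotient_away A J' C a)
        (Algebra.FiniteType.of_restrictScalars_finiteType A (A ⧸ J') B₀)
        (fun a' ha' => by
          obtain ⟨a, ha, rfl⟩ :=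
            (Ideal.mem_map_iff_of_surjective _ Ideal.Quotient.mk_surjective).mp ha'
          rw [← Ideal.Quotient.algebraMap_eq, ← IsScalarTower.algebraMap_apply]
          exact hBe a ha)
        π'
        (fun y => by
          obtain ⟨c, rfl⟩ := hπ y
          exact ⟨Ideal.Quotient.mk _ c, rfl⟩)
        (by
          show RingHom.ker (Ideal.Quotient.lift _ π.toRingHom hπ0) = _
          rw [Ideal.ker_quotient_lift, hπk, hker, Ideal.map_map, Ideal.map_map]
          rfl)
        f' hf
        (fun c => by rw [hIC₀]; exact hs c)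
        (fun b => by rw [hIC₀, hIB₀]; exact hi b)
    letI : Algebra A B' := ((algebraMap (A ⧸ J') B').comp (algebraMap A (A ⧸ J'))).toAlgebra
    haveI : IsScalarTower A (A ⧸ J') B' := IsScalarTower.of_algebraMap_eq fun _ => rfl
    letI : Algebra B' (C ⧸ J'.map (algebraMap A C)) := q'.toRingHom.toAlgebra
    haveI : Algebra.Etale B' (C ⧸ J'.map (algebraMap A C)) := hq'
    haveI : IsScalarTower A B' (C ⧸ J'.map (algebraMap A C)) := IsScalarTower.of_algebraMap_eq fun a => by
      show _ = q' (algebraMap (A ⧸ J') B' (algebraMap A (A ⧸ J') a))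
      rw [AlgHom.commutes, ← IsScalarTower.algebraMap_apply]
    haveI : Algebra.FiniteType (A ⧸ J') B' := hB'
    -- the map is bijective modulo `I`
    have hJB' : (J.map (algebraMap A B')) ^ (n + 1) = ⊥ := by
      rw [← Ideal.map_pow, ← hJ'def, IsScalarTower.algebraMap_eq A (A ⧸ J') B', ← Ideal.map_map,
        Ideal.Quotient.algebraMap_eq, Ideal.map_quotient_self, Ideal.map_bot]
    have hkerp : RingHom.ker p'.toRingHom = J.map (algebraMap A B') := by
      rw [hpk', hker, Ideal.map_map]
      rfl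
    have hkerπ₁ : ∀ z, π₁ z = 0 → z ∈ J.map (algebraMap A (C ⧸ J'.map (algebraMap A C))) := by
      intro z hz
      obtain ⟨c, rfl⟩ := Ideal.Quotient.mk_surjective z
      have : c ∈ J.map (algebraMap A C) := hπk ▸ (hz : π c = 0)
      have := Ideal.mem_map_of_mem (Ideal.Quotient.mk (J'.map (algebraMap A C))) this
      rw [Ideal.map_map] at this
      exact this
    have hiso : IsoMod (I.map (algebraMap A B') ⊔ J.map (algebraMap A B'))
        (C ⧸ J'.map (algebraMap A C)) := by
      refine ⟨fun c => ?_, fun b hb => ?_⟩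
      · rw [Ideal.map_sup, Ideal.map_map, Ideal.map_map, ← IsScalarTower.algebraMap_eq]
        obtain ⟨b₀, hb₀⟩ := hs (π₁ c)
        obtain ⟨b, rfl⟩ := hp' b₀
        have hfb : f (p' b) = π₁ (q' b) := hcompat b
        rw [hfb, ← map_sub, ← π₁.comp_algebraMap] at hb₀
        change π₁ (c - q' b) ∈ I.map (π₁.toRingHom.comp (algebraMap A (C ⧸ J'.map (algebraMap A C)))) at hb₀
        rw [← Ideal.map_map, Ideal.mem_map_iff_of_surjective π₁.toRingHom (fun y => by
          obtain ⟨w, rfl⟩ := hπ y
          exact ⟨Ideal.Quotient.mk _ w, rfl⟩)] at hb₀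
        obtain ⟨z, hz, hzc⟩ := hb₀
        refine ⟨b, ?_⟩
        have h1 : c - q' b - z ∈ J.map (algebraMap A (C ⧸ J'.map (algebraMap A C))) :=
          hkerπ₁ _ (by rw [map_sub, ← hzc]; exact sub_self _)
        have := add_mem (Submodule.mem_sup_left hz) (Submodule.mem_sup_right h1 :
          _ ∈ I.map (algebraMap A (C ⧸ J'.map (algebraMap A C))) ⊔ _)
        rwa [add_sub_cancel] at this
      · have hb' : π₁ (q' b) ∈ I.map (algebraMap A C₀) := by
          have h1 := Ideal.mem_map_of_mem π₁.toRingHom hb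
          rw [Ideal.map_sup, Ideal.map_map, Ideal.map_map, ← IsScalarTower.algebraMap_eq,
            Ideal.map_sup, Ideal.map_map, Ideal.map_map] at h1
          change π₁ (q' b) ∈ _ at h1
          have hJ0 : J.map (π₁.toRingHom.comp (algebraMap A (C ⧸ J'.map (algebraMap A C)))) = ⊥ := by
            rw [eq_bot_iff, Ideal.map_le_iff_le_comap]
            intro j hj
            rw [Ideal.mem_comap, Ideal.mem_bot]
            show π₁ (algebraMap A (C ⧸ J'.map (algebraMap A C)) j) = 0
            rw [AlgHom.commutes, ← π.commutes]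
            exact (hπk ▸ Ideal.mem_map_of_mem _ hj : algebraMap A C j ∈ RingHom.ker π.toRingHom)
          rw [hJ0, sup_bot_eq] at h1
          rwa [show π₁.toRingHom.comp (algebraMap A (C ⧸ J'.map (algebraMap A C))) = algebraMap A C₀
            from π₁.comp_algebraMap] at h1
        have h2 : p' b ∈ I.map (algebraMap A B₀) := hi _ ((hcompat b).symm ▸ hb')
        rw [← show p'.toRingHom.comp (algebraMap A B') = algebraMap A B₀ from
          RingHom.ext fun a => (p'.commutes _).trans (IsScalarTower.algebraMap_apply A (A ⧸ J') B₀ a).symm,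
          ← Ideal.map_map, show p' b = p'.toRingHom b from rfl, ← Ideal.mem_comap,
          Ideal.comap_map_of_surjective p'.toRingHom hp'] at h2
        rw [← hkerp]
        exact h2
    have hiso' : IsoMod (I.map (algebraMap A B')) (C ⧸ J'.map (algebraMap A C)) :=
      isoMod_of_nilpotent hJB' hiso
    obtain ⟨B, iB, iAB, iBC, iABC, iBB', iABB', hBft, hBC, hBe'', hsurj, hker', hcompat'⟩ :=
      exists_lift_sq_zero A I J' hJ'2 C hC B' (fun a ha => by
        rw [IsScalarTower.algebraMap_apply A (A ⧸ J') B']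
        exact hBe' _ (Ideal.mem_map_of_mem _ ha)) hiso'
    let p : B →ₐ[A] B₀ :=
      (p'.restrictScalars A).comp (IsScalarTower.toAlgHom A B B')
    refine ⟨B, iB, iAB, p, IsScalarTower.toAlgHom A B C, hBft, RingHom.etale_algebraMap.mpr hBC, hBe'',
      hp'.comp hsurj, ?_, fun b => ?_⟩
    · show RingHom.ker (p'.toRingHom.comp (algebraMap B B')) = _
      rw [← RingHom.comap_ker, hkerp, IsScalarTower.algebraMap_eq A B B', ← Ideal.map_map,
        Ideal.comap_map_of_surjective _ hsurj]
      change J.map (algebraMap A B) ⊔ RingHom.ker (algebraMap B B') = _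
      rw [hker', sup_eq_left.mpr (Ideal.map_mono hJ'J)]
    · show f (p' (algebraMap B B' b)) = π (algebraMap B C b)
      exact (hcompat (algebraMap B B' b)).trans (congrArg π₁ (hcompat' b))

/-- Lifting along a nilpotent ideal. -/
theorem exists_lift (A : Type u) [CommRing A] [IsNoetherianRing A] (I J : Ideal A) (hJ : IsNilpotent J)
    (C : Type u) [CommRing C] [Algebra A C]
    (hC : ∀ a ∈ I, Algebra.Etale A (Localization.Away (algebraMap A C a))) (B₀ : Type u) [CommRing B₀]
    [Algebra A B₀] [Algebra (A ⧸ J) B₀] [IsScalarTower A (A ⧸ J) B₀] [Algebra.FiniteType (A ⧸ J) B₀]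
    (hB₀ : ∀ a ∈ I, Algebra.Etale (A ⧸ J) (Localization.Away (algebraMap A B₀ a)))
    [Algebra B₀ (C ⧸ J.map (algebraMap A C))] [IsScalarTower A B₀ (C ⧸ J.map (algebraMap A C))]
    [Algebra.Etale B₀ (C ⧸ J.map (algebraMap A C))]
    (hs : ∀ c : C ⧸ J.map (algebraMap A C), ∃ b : B₀,
      algebraMap B₀ (C ⧸ J.map (algebraMap A C)) b - c ∈ I.map (algebraMap A (C ⧸ J.map (algebraMap A C))))
    (hi : ∀ b : B₀, algebraMap B₀ (C ⧸ J.map (algebraMap A C)) b ∈
      I.map (algebraMap A (C ⧸ J.map (algebraMap A C))) → b ∈ I.map (algebraMap A B₀)) :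
    ∃ (B : Type u) (_ : CommRing B) (_ : Algebra A B) (_ : Algebra B C) (_ : IsScalarTower A B C)
      (_ : Algebra B B₀) (_ : IsScalarTower A B B₀),
      Algebra.FiniteType A B ∧ Algebra.Etale B C ∧
      (∀ a ∈ I, Algebra.Etale A (Localization.Away (algebraMap A B a))) ∧
      Function.Surjective (algebraMap B B₀) ∧
      RingHom.ker (algebraMap B B₀) = J.map (algebraMap A B) ∧
      ∀ b : B, algebraMap B₀ (C ⧸ J.map (algebraMap A C)) (algebraMap B B₀ b) =
        Ideal.Quotient.mk (J.map (algebraMap A C)) (algebraMap B C b) := by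
  obtain ⟨k, hk⟩ := hJ
  have hker : RingHom.ker (algebraMap A (A ⧸ J)) = J := Ideal.mk_ker
  obtain ⟨B, iB, iAB, p, q, hBft, hq, hBe, hp, hpk, hcompat⟩ :=
    exists_lift_aux k A (A ⧸ J) C (C ⧸ J.map (algebraMap A C)) B₀ I Ideal.Quotient.mk_surjective
      (by rw [hker, pow_succ, hk, zero_mul, Ideal.zero_eq_bot]) hC
      (Algebra.FiniteType.trans (S := A ⧸ J) inferInstance inferInstance) hB₀
      (Ideal.Quotient.mkₐ A _) Ideal.Quotient.mk_surjective
      (by rw [hker]; exact Ideal.mk_ker)
      (IsScalarTower.toAlgHom A B₀ (C ⧸ J.map (algebraMap A C)))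
      (RingHom.etale_algebraMap.mpr inferInstance)
      (fun c => (hs c).imp fun b hb => by simpa using neg_mem hb) hi
  letI := q.toRingHom.toAlgebra
  letI := p.toRingHom.toAlgebra
  exact ⟨B, iB, iAB, q.toRingHom.toAlgebra, IsScalarTower.of_algebraMap_eq fun x => (q.commutes x).symm,
    p.toRingHom.toAlgebra, IsScalarTower.of_algebraMap_eq fun x => (p.commutes x).symm,
    hBft, hq, hBe, hp, hker ▸ hpk, hcompat⟩

end Groth.L05.EtaleApprox
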