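import Groth.Agent.S9436
import Mathlib.RingTheory.Etale.Basic
import Mathlib.RingTheory.Smooth.Flat
import Mathlib.RingTheory.Unramified.Basic
import Mathlib.LinearAlgebra.TensorProduct.Quotient
import Mathlib.RingTheory.TensorProduct.Quotient

/-!
# Étale lifts modulo an ideal of square zero
-/

set_option autoImplicit false

universe u

open scoped TensorProduct

namespace Groth.L05.EtaleApprox

variable {A : Type u} [CommRing A] {J : Ideal A}

/-- An algebra with a given reduction modulo `J`. -/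
structure Red (J : Ideal A) (F F₀ : Type u) [CommRing F] [CommRing F₀] [Algebra A F] [Algebra A F₀] where
  π : F →ₐ[A] F₀
  surj : Function.Surjective π
  ker : RingHom.ker π.toRingHom = J.map (algebraMap A F)

namespace Red

variable {F F₀ G G₀ : Type u} [CommRing F] [CommRing F₀] [Algebra A F] [Algebra A F₀]
  [CommRing G] [CommRing G₀] [Algebra A G] [Algebra A G₀] (P : Red J F F₀) (Q : Red J G G₀)
  (hJ : ∀ a ∈ J, ∀ b ∈ J, a * b = 0)

include hJ in
theorem mul_ker {j : A} (hj : j ∈ J) {x : F} (hx : P.π x = 0) : algebraMap A F j * x = 0 := by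
  have hx' : x ∈ J.map (algebraMap A F) := P.ker ▸ hx
  refine Submodule.span_induction (p := fun x _ => algebraMap A F j * x = 0) ?_ (mul_zero _) ?_ ?_ hx'
  · rintro _ ⟨b, hb, rfl⟩
    rw [← map_mul, hJ j hj b hb, map_zero]
  · intro a b _ _ ha hb
    rw [mul_add, ha, hb, add_zero]
  · intro t a _ ha
    rw [smul_eq_mul, mul_left_comm, ha, mul_zero]

include hJ in
theorem mul_eq {j : A} (hj : j ∈ J) {x y : F} (h : P.π x = P.π y) :
    algebraMap A F j * x = algebraMap A F j * y := by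
  rw [← sub_eq_zero, ← mul_sub]
  exact P.mul_ker hJ hj (by rw [map_sub, h, sub_self])

/-- Multiplication by elements of `J`. -/
noncomputable def μ : F₀ ⊗[A] J →ₗ[A] F :=
  TensorProduct.lift (LinearMap.mk₂ A
    (fun x₀ j => algebraMap A F j.1 * Function.surjInv P.surj x₀)
    (fun x y j => by
      rw [← mul_add]
      exact P.mul_eq hJ j.2 (by rw [map_add, Function.surjInv_eq P.surj, Function.surjInv_eq P.surj, Function.surjInv_eq P.surj]))
    (fun c x j => by
      rw [← mul_smul_comm]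
      exact P.mul_eq hJ j.2 (by rw [map_smul, Function.surjInv_eq P.surj, Function.surjInv_eq P.surj]))
    (fun x j k => by simp [add_mul])
    (fun c x j => by simp [Algebra.smul_def, mul_assoc]))

theorem μ_tmul (x : F) (j : J) : P.μ hJ (P.π x ⊗ₜ j) = algebraMap A F j.1 * x := by
  rw [μ, TensorProduct.lift.tmul, LinearMap.mk₂_apply]
  exact P.mul_eq hJ j.2 (Function.surjInv_eq P.surj _)

theorem π_μ (z : F₀ ⊗[A] J) : P.π (P.μ hJ z) = 0 := by
  induction z with
  | zero => simp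
  | tmul x₀ j =>
    obtain ⟨x, rfl⟩ := P.surj x₀
    rw [μ_tmul, map_mul, AlgHom.commutes]
    have : algebraMap A F j.1 ∈ RingHom.ker P.π.toRingHom := P.ker ▸ Ideal.mem_map_of_mem _ j.2
    rw [← AlgHom.commutes P.π]
    rw [show P.π (algebraMap A F j.1) = 0 from this, zero_mul]
  | add a b ha hb => rw [map_add, map_add, ha, hb, add_zero]

theorem exists_μ {x : F} (hx : P.π x = 0) : ∃ z, P.μ hJ z = x := by
  have hx' : x ∈ J.map (algebraMap A F) := P.ker ▸ hx
  refine Submodule.span_induction (p := fun x _ => ∀ t : F, ∃ z, P.μ hJ z = t * x) ?_ ?_ ?_ ?_ hx' 1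
    |>.imp fun z hz => by rwa [one_mul] at hz
  · rintro _ ⟨j, hj, rfl⟩ t
    exact ⟨P.π t ⊗ₜ ⟨j, hj⟩, by rw [μ_tmul, mul_comm]⟩
  · exact fun t => ⟨0, by rw [map_zero, mul_zero]⟩
  · intro a b _ _ ha hb t
    obtain ⟨za, ha⟩ := ha t
    obtain ⟨zb, hb⟩ := hb t
    exact ⟨za + zb, by rw [map_add, ha, hb, mul_add]⟩
  · intro c a _ ha t
    obtain ⟨z, hz⟩ := ha (t * c)
    exact ⟨z, by rw [hz, smul_eq_mul, mul_assoc]⟩

theorem μ_injective [Module.Flat A F] : Function.Injective (P.μ hJ) := by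
  have hsurj : Function.Surjective (P.π.toLinearMap.rTensor J) :=
    LinearMap.rTensor_surjective _ P.surj
  have hinj := Module.Flat.lTensor_preserves_injective_linearMap (M := F) (Submodule.subtype J)
    Subtype.val_injective
  intro z w h
  obtain ⟨z, rfl⟩ := hsurj z
  obtain ⟨w, rfl⟩ := hsurj w
  have key : ∀ t : F ⊗[A] J, P.μ hJ (P.π.toLinearMap.rTensor J t) =
      TensorProduct.rid A F ((Submodule.subtype J).lTensor F t) := by
    intro t
    induction t with
    | zero => simp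
    | tmul x j => simp [μ_tmul, Algebra.smul_def]
    | add a b ha hb => simp only [map_add, ha, hb]
  rw [key, key] at h
  rw [hinj ((TensorProduct.rid A F).injective h)]

theorem μ_natural (g : F →ₐ[A] G) (g₀ : F₀ →ₐ[A] G₀) (h : ∀ x, Q.π (g x) = g₀ (P.π x))
    (z : F₀ ⊗[A] J) : g (P.μ hJ z) = Q.μ hJ (g₀.toLinearMap.rTensor J z) := by
  induction z with
  | zero => simp
  | tmul x₀ j =>
    obtain ⟨x, rfl⟩ := P.surj x₀
    rw [μ_tmul, map_mul, AlgHom.commutes, LinearMap.rTensor_tmul, AlgHom.toLinearMap_apply, ← h, μ_tmul]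
  | add a b ha hb => simp only [map_add, ha, hb]

include hJ in
theorem isNilpotent_ker : IsNilpotent (RingHom.ker P.π.toRingHom) := by
  refine ⟨2, ?_⟩
  rw [P.ker, ← Ideal.map_pow, show J ^ 2 = ⊥ by
    rw [pow_two, eq_bot_iff, Ideal.mul_le]
    intro a ha b hb
    rw [Ideal.mem_bot, hJ a ha b hb]]
  exact Ideal.map_bot

include hJ in
/-- Maps into the thickening lift uniquely. -/
theorem existsUnique_lift {E : Type u} [CommRing E] [Algebra A E] [Algebra.Etale A E]
    (f₀ : E →ₐ[A] G₀) : ∃! f : E →ₐ[A] G, Q.π.comp f = f₀ := by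
  refine ⟨Algebra.FormallySmooth.liftOfSurjective f₀ Q.π Q.surj (Q.isNilpotent_ker hJ),
    Algebra.FormallySmooth.comp_liftOfSurjective _ _ _ _, fun f hf => ?_⟩
  exact Algebra.FormallyUnramified.lift_unique' Q.π (Q.isNilpotent_ker hJ) _ _
    (hf.trans (Algebra.FormallySmooth.comp_liftOfSurjective _ _ _ _).symm)

end Red

/-- Étale algebras over `A / J` lift. -/
theorem exists_red (J : Ideal A) (E₀ : Type u) [CommRing E₀] [Algebra A E₀] [Algebra (A ⧸ J) E₀]
    [IsScalarTower A (A ⧸ J) E₀] [Algebra.Etale (A ⧸ J) E₀] :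
    ∃ (E : Type u) (_ : CommRing E) (_ : Algebra A E) (_ : Algebra.Etale A E), Nonempty (Red J E E₀) := by
  obtain ⟨E, _, _, hE, ⟨e⟩⟩ := Groth.Agent.S9436.result A J E₀
  let π : E →ₐ[A] E₀ := ((e.toAlgHom.restrictScalars A).comp Algebra.TensorProduct.includeRight)
  have hπ : ∀ x, π x = e ((1 : A ⧸ J) ⊗ₜ x) := fun x => rfl
  let e' : (A ⧸ J) ⊗[A] E ≃ₗ[A] E ⧸ (J • ⊤ : Submodule A E) := TensorProduct.quotTensorEquivQuotSMul E J
  refine ⟨E, inferInstance, inferInstance, hE, ⟨⟨π, fun y => ?_, ?_⟩⟩⟩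
  · obtain ⟨z, rfl⟩ := e.surjective y
    obtain ⟨w, hw⟩ := e'.symm.surjective z
    obtain ⟨x, rfl⟩ := Submodule.Quotient.mk_surjective _ w
    refine ⟨x, ?_⟩
    rw [hπ, ← hw, TensorProduct.quotTensorEquivQuotSMul_symm_mk]
  · ext x
    rw [RingHom.mem_ker]
    show π x = 0 ↔ _
    rw [hπ, map_eq_zero_iff _ e.injective, ← e'.map_eq_zero_iff,
      TensorProduct.quotTensorEquivQuotSMul_mk_one_tmul, Submodule.Quotient.mk_eq_zero,
      Ideal.smul_top_eq_map, Submodule.restrictScalars_mem]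

end Groth.L05.EtaleApprox
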