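import Groth.Agent.L05.EtaleApprox.Glue
import Mathlib.RingTheory.Noetherian.Basic
import Mathlib.RingTheory.LocalProperties.Basic

/-!
# Lifting approximations along a square zero ideal
-/

set_option autoImplicit false
set_option linter.style.haveILetI false
set_option backward.isDefEq.respectTransparency.types false
set_option backward.isDefEq.respectTransparency false

universe u

open scoped TensorProduct

namespace Groth.L05.EtaleApprox

namespace Data

variable (T : Data.{u})

theorem etale_away (a : T.A) (ha : a ∈ Ideal.span (Set.range T.a)) :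
    Algebra.Etale T.A (Localization.Away (algebraMap T.A T.B a)) := by
  let L := Localization.Away (algebraMap T.A T.B a)
  rw [← RingHom.etale_algebraMap]
  refine RingHom.Etale.ofLocalizationSpanTarget (algebraMap T.A L)
    (Set.range fun i => algebraMap T.A L (T.a i)) ?_ ?_
  · rw [Ideal.eq_top_iff_one]
    obtain ⟨c, hc⟩ := Ideal.mem_span_range_iff_exists_fun.mp ha
    have hu : IsUnit (algebraMap T.A L a) := by
      rw [IsScalarTower.algebraMap_apply T.A T.B L]
      exact IsLocalization.Away.algebraMap_isUnit _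
    have : algebraMap T.A L a ∈ Ideal.span (Set.range fun i => algebraMap T.A L (T.a i)) := by
      have hsum := congrArg (algebraMap T.A L) hc
      rw [map_sum] at hsum
      rw [← hsum]
      exact sum_mem fun i _ => by
        rw [map_mul]
        exact Ideal.mul_mem_left _ _ (Ideal.subset_span ⟨i, rfl⟩)
    obtain ⟨v, hv⟩ := hu.exists_right_inv
    rw [← hv]
    exact Ideal.mul_mem_right _ _ this
  · rintro ⟨_, i, rfl⟩
    dsimp only
    rw [← IsScalarTower.algebraMap_eq, RingHom.etale_algebraMap]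
    letI := (T.pE i).toRingHom.toAlgebra
    haveI := T.isLocalization_pE i
    haveI : IsScalarTower T.A T.B (T.E (T.k1 i)) :=
      IsScalarTower.of_algebraMap_eq fun x => ((T.pE i).commutes x).symm
    let Ea := Localization.Away (algebraMap T.B (T.E (T.k1 i)) (algebraMap T.A T.B a))
    haveI : IsLocalization.Away (algebraMap T.A T.B (T.a i) * algebraMap T.A T.B a) Ea :=
      IsLocalization.Away.mul' (T.E (T.k1 i)) Ea _ _
    haveI : IsLocalization.Away (algebraMap T.A T.B (T.a i) * algebraMap T.A T.B a)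
        (Localization.Away (algebraMap T.A L (T.a i))) := by
      rw [mul_comm]
      haveI : IsLocalization.Away (algebraMap T.B L (algebraMap T.A T.B (T.a i)))
          (Localization.Away (algebraMap T.A L (T.a i))) := by
        rw [← IsScalarTower.algebraMap_apply]
        infer_instance
      exact IsLocalization.Away.mul' L _ _ _
    haveI : Algebra.Etale (T.E (T.k1 i)) Ea :=
      Algebra.Etale.of_isLocalizationAway (algebraMap T.B (T.E (T.k1 i)) (algebraMap T.A T.B a))
    haveI : Algebra.Etale T.A Ea := Algebra.Etale.comp T.A (T.E (T.k1 i)) Ea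
    exact Algebra.Etale.of_equiv ((IsLocalization.algEquiv
      (Submonoid.powers (algebraMap T.A T.B (T.a i) * algebraMap T.A T.B a)) Ea
      (Localization.Away (algebraMap T.A L (T.a i)))).restrictScalars T.A)

theorem etale_pC [Algebra.Etale T.B₀ T.C₀] :
    letI := T.pC.toRingHom.toAlgebra
    Algebra.Etale T.B T.C := by
  letI := T.pC.toRingHom.toAlgebra
  letI : Algebra T.B T.B₀ := T.toB₀.toRingHom.toAlgebra
  haveI : IsScalarTower T.B T.B₀ T.C₀ := IsScalarTower.of_algebraMap_eq fun b => (T.toB₀_C b).symm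
  haveI : IsScalarTower T.A T.B T.C := IsScalarTower.of_algebraMap_eq fun x => (T.pC.commutes x).symm
  have hmapC : (T.J.map (algebraMap T.A T.B)).map (algebraMap T.B T.C) = T.J.map (algebraMap T.A T.C) := by
    rw [Ideal.map_map, ← IsScalarTower.algebraMap_eq]
  have hkerB : RingHom.ker (algebraMap T.B T.B₀) = T.J.map (algebraMap T.A T.B) := T.ker_toB₀
  have hkerC : RingHom.ker (algebraMap T.C T.C₀) = T.J.map (algebraMap T.A T.C) := Ideal.mk_ker
  have hJ2 : T.J ^ 2 = ⊥ := by
    rw [pow_two, eq_bot_iff, Ideal.mul_le]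
    intro a ha b hb
    rw [Ideal.mem_bot, T.hJ a ha b hb]
  refine Groth.Agent.S9462.result T.B T.B₀ T.toB₀_surjective
    (by rw [hkerB, ← Ideal.map_pow, hJ2, Ideal.map_bot]) T.C T.C₀ Ideal.Quotient.mk_surjective
    (by rw [hkerC, ← Ideal.map_pow, hJ2, Ideal.map_bot]) (by rw [hkerC, hkerB, hmapC]) ?_
  set N := RingHom.ker (algebraMap T.B T.B₀)
  have hj : ∀ j : T.J, algebraMap T.A T.B j.1 ∈ N := fun j => hkerB ▸ Ideal.mem_map_of_mem _ j.2
  let e : T.J → N := fun j => ⟨algebraMap T.A T.B j.1, hj j⟩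
  -- the comparison map from `C₀ ⊗ J`
  have hwell : ∀ (j : T.J) (c : T.C), T.red.π c = 0 → c ⊗ₜ[T.B] e j = 0 := by
    intro j c hc
    have hc' : c ∈ T.J.map (algebraMap T.A T.C) := T.red.ker ▸ hc
    refine Submodule.span_induction (p := fun c _ => ∀ t : T.C, (t * c) ⊗ₜ[T.B] e j = 0) ?_ ?_ ?_ ?_ hc' 1
      |> fun h => by rwa [one_mul] at h
    · rintro _ ⟨j', hj', rfl⟩ t
      rw [IsScalarTower.algebraMap_apply T.A T.B T.C, mul_comm, ← Algebra.smul_def, TensorProduct.smul_tmul]
      rw [show algebraMap T.A T.B j' • e j = 0 from Subtype.ext (by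
        show algebraMap T.A T.B j' * algebraMap T.A T.B j.1 = 0
        rw [← map_mul, T.hJ j' hj' j.1 j.2, map_zero]), TensorProduct.tmul_zero]
    · intro t
      rw [mul_zero, TensorProduct.zero_tmul]
    · intro a b _ _ ha hb t
      rw [mul_add, TensorProduct.add_tmul, ha, hb, add_zero]
    · intro s a _ ha t
      rw [smul_eq_mul, ← mul_assoc]
      exact ha _
  have heq : ∀ (j : T.J) (c c' : T.C), T.red.π c = T.red.π c' → c ⊗ₜ[T.B] e j = c' ⊗ₜ[T.B] e j := by
    intro j c c' h
    rw [← sub_eq_zero, ← TensorProduct.sub_tmul]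
    exact hwell j _ (by rw [map_sub, h, sub_self])
  let Θ : T.C₀ ⊗[T.A] T.J →+ T.C ⊗[T.B] N := TensorProduct.liftAddHom
    { toFun := fun c₀ =>
        { toFun := fun j => Function.surjInv T.red.surj c₀ ⊗ₜ[T.B] e j
          map_zero' := by
            rw [show e 0 = 0 from Subtype.ext (map_zero _), TensorProduct.tmul_zero]
          map_add' := fun j k => by
            rw [show e (j + k) = e j + e k from Subtype.ext (map_add _ _ _), TensorProduct.tmul_add] }
      map_zero' := AddMonoidHom.ext fun j => hwell j _ (Function.surjInv_eq T.red.surj 0)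
      map_add' := fun x y => AddMonoidHom.ext fun j => by
        show _ ⊗ₜ[T.B] e j = _ ⊗ₜ[T.B] e j + _ ⊗ₜ[T.B] e j
        rw [← TensorProduct.add_tmul]
        exact heq j _ _ (by rw [map_add, Function.surjInv_eq T.red.surj, Function.surjInv_eq T.red.surj,
          Function.surjInv_eq T.red.surj]) }
    (fun a c₀ j => by
      show Function.surjInv T.red.surj (a • c₀) ⊗ₜ[T.B] e j = Function.surjInv T.red.surj c₀ ⊗ₜ[T.B] e (a • j)
      rw [show e (a • j) = algebraMap T.A T.B a • e j from Subtype.ext (by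
        show algebraMap T.A T.B (a * j.1) = algebraMap T.A T.B a * algebraMap T.A T.B j.1
        rw [map_mul]), ← TensorProduct.smul_tmul, algebraMap_smul]
      exact heq j _ _ (by rw [Function.surjInv_eq T.red.surj, map_smul,
        Function.surjInv_eq T.red.surj]))
  have hΘ : ∀ (c : T.C) (j : T.J), Θ (T.red.π c ⊗ₜ[T.A] j) = c ⊗ₜ[T.B] e j := fun c j =>
    heq j _ _ (Function.surjInv_eq T.red.surj _)
  have hΘs : Function.Surjective Θ := by
    intro z
    induction z using TensorProduct.induction_on with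
    | zero => exact ⟨0, map_zero _⟩
    | tmul c n =>
      suffices h : ∀ m (hm : m ∈ N) (t : T.C), ∃ y, Θ y = t ⊗ₜ[T.B] (⟨m, hm⟩ : N) from h n.1 n.2 c
      intro m hm
      have hm' : m ∈ T.J.map (algebraMap T.A T.B) := hkerB ▸ hm
      refine Submodule.span_induction (p := fun m _ => ∀ (hm : m ∈ N) (t : T.C),
        ∃ y, Θ y = t ⊗ₜ[T.B] (⟨m, hm⟩ : N)) ?_ ?_ ?_ ?_ hm' hm
      · rintro _ ⟨j, hj', rfl⟩ hm t
        exact ⟨T.red.π t ⊗ₜ[T.A] ⟨j, hj'⟩, hΘ t ⟨j, hj'⟩⟩
      · intro hm t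
        exact ⟨0, by rw [map_zero]; exact (TensorProduct.tmul_zero N t).symm⟩
      · intro a b ha' hb' ha hb hm t
        have haN : a ∈ N := hkerB.symm ▸ ha'
        have hbN : b ∈ N := hkerB.symm ▸ hb'
        obtain ⟨ya, hya⟩ := ha haN t
        obtain ⟨yb, hyb⟩ := hb hbN t
        exact ⟨ya + yb, by rw [map_add, hya, hyb, ← TensorProduct.tmul_add]; rfl⟩
      · intro s a ha' ha hm t
        have haN : a ∈ N := hkerB.symm ▸ ha'
        obtain ⟨y, hy⟩ := ha haN (s • t)
        exact ⟨y, by rw [hy, TensorProduct.smul_tmul]; rfl⟩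
    | add a b ha hb =>
      obtain ⟨ya, rfl⟩ := ha
      obtain ⟨yb, rfl⟩ := hb
      exact ⟨ya + yb, map_add _ _ _⟩
  -- the composite with multiplication
  have hmult : ∀ y, TensorProduct.rid T.B T.C (N.subtype.baseChange T.C (Θ y)) = T.red.μ T.hJ y := by
    intro y
    induction y using TensorProduct.induction_on with
    | zero => simp
    | tmul c₀ j =>
      obtain ⟨c, rfl⟩ := T.red.surj c₀
      rw [hΘ, T.red.μ_tmul, LinearMap.baseChange_tmul, TensorProduct.rid_tmul, Algebra.smul_def]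
      show algebraMap T.B T.C (algebraMap T.A T.B j.1) * c = _
      rw [← IsScalarTower.algebraMap_apply]
    | add a b ha hb => simp only [map_add, ha, hb]
  rw [injective_iff_map_eq_zero]
  intro z hz
  obtain ⟨y, rfl⟩ := hΘs z
  have h0 : T.red.μ T.hJ y = 0 := by rw [← hmult, hz, map_zero]
  let cb := TensorProduct.AlgebraTensorModule.cancelBaseChange T.A T.B₀ T.B₀ T.C₀ T.J
  obtain ⟨w, rfl⟩ := cb.surjective y
  have h0' : T.νC w = 0 := h0
  have hloc : T.DJ.loc.lTensor T.C₀ w = 0 := by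
    refine pi_tensor_ext fun i => ?_
    apply T.ν_injective (T.k1 i)
    rw [← LinearMap.comp_apply (f := (LinearMap.proj i).lTensor T.C₀), ← LinearMap.lTensor_comp,
      map_zero, map_zero]
    show T.ν (T.k1 i) ((T.DJ.g (T.k1 i)).lTensor T.C₀ w) = 0
    rw [← T.ℓ_νC, h0', map_zero]
  obtain ⟨k, hk⟩ := T.DJ.torsion_ker_locS w hloc
  obtain ⟨x, hx, rfl⟩ := T.isoJ.exists_tmul_eq T.DJ.ideal_fg k w hk
  obtain ⟨Φx, hΦ, hΦC, hΦE⟩ := T.exists_Φ x
  have hΦ0 : Φx = 0 := T.B_ext (by rw [hΦC, h0', map_zero]) fun i => by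
    rw [hΦE, map_zero, show T.DJ.g (T.k1 i) x = 0 from congrFun (T.DJ.loc_eq_zero_of_torsion ⟨k, hx⟩) i,
      map_zero]
  -- compute the comparison map on the base
  have key : ∀ x : T.B₀ ⊗[T.A] T.J, ∃ ξ : N,
      Θ (cb ((1 : T.C₀) ⊗ₜ[T.B₀] x)) = (1 : T.C) ⊗ₜ[T.B] ξ ∧
        T.pC ξ.1 = T.νC ((1 : T.C₀) ⊗ₜ[T.B₀] x) ∧
        ∀ i, T.pE i ξ.1 = (T.P (T.k1 i)).μ T.hJ (T.DJ.g (T.k1 i) x) := by
    intro x
    induction x using TensorProduct.induction_on with
    | zero => exact ⟨0, by simp, by simp, fun i => by simp⟩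
    | tmul b j =>
      obtain ⟨bt, rfl⟩ := T.toB₀_surjective b
      refine ⟨bt • e j, ?_, ?_, fun i => ?_⟩
      · rw [← TensorProduct.smul_tmul, Algebra.smul_def, mul_one]
        rw [show cb ((1 : T.C₀) ⊗ₜ[T.B₀] (T.toB₀ bt ⊗ₜ[T.A] j)) =
          T.red.π (algebraMap T.B T.C bt) ⊗ₜ[T.A] j by
            show (T.toB₀ bt • (1 : T.C₀)) ⊗ₜ[T.A] j = _
            rw [Algebra.smul_def, mul_one, T.toB₀_C]
            rfl, hΘ]
      · show T.pC (bt * algebraMap T.A T.B j.1) = T.red.μ T.hJ ((T.toB₀ bt • (1 : T.C₀)) ⊗ₜ[T.A] j)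
        rw [Algebra.smul_def, mul_one, T.toB₀_C, T.red.μ_tmul, map_mul, AlgHom.commutes, mul_comm]
      · show T.pE i (bt * algebraMap T.A T.B j.1) =
          (T.P (T.k1 i)).μ T.hJ (algebraMap T.B₀ (T.BL (T.k1 i)) (T.toB₀ bt) ⊗ₜ[T.A] j)
        rw [T.toB₀_E, (T.P _).μ_tmul, map_mul, AlgHom.commutes, mul_comm]
    | add a b ha hb =>
      obtain ⟨ξ, h1, h2, h3⟩ := ha
      obtain ⟨η, k1, k2, k3⟩ := hb
      exact ⟨ξ + η, by rw [TensorProduct.tmul_add, map_add, map_add, h1, k1, TensorProduct.tmul_add],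
        by rw [Submodule.coe_add, map_add, h2, k2, TensorProduct.tmul_add, map_add],
        fun i => by rw [Submodule.coe_add, map_add, h3, k3, map_add, map_add]⟩
  obtain ⟨ξ, hξ1, hξ2, hξ3⟩ := key x
  have hξ0 : ξ = 0 := Subtype.ext (show ξ.1 = 0 from hΦ0 ▸ T.B_ext (hξ2.trans hΦC.symm)
    fun i => (hξ3 i).trans (hΦE i).symm)
  rw [hξ1, hξ0, TensorProduct.tmul_zero]

end Data

/-- The square zero case. -/
theorem exists_lift_sq_zero (A : Type u) [CommRing A] [IsNoetherianRing A] (I J : Ideal A)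
    (hJ : ∀ a ∈ J, ∀ b ∈ J, a * b = 0) (C : Type u) [CommRing C] [Algebra A C]
    (hC : ∀ a ∈ I, Algebra.Etale A (Localization.Away (algebraMap A C a))) (B₀ : Type u) [CommRing B₀]
    [Algebra A B₀] [Algebra (A ⧸ J) B₀] [IsScalarTower A (A ⧸ J) B₀] [Algebra.FiniteType (A ⧸ J) B₀]
    (hB₀ : ∀ a ∈ I, Algebra.Etale (A ⧸ J) (Localization.Away (algebraMap A B₀ a)))
    [Algebra B₀ (C ⧸ J.map (algebraMap A C))] [IsScalarTower A B₀ (C ⧸ J.map (algebraMap A C))]
    [Algebra.Etale B₀ (C ⧸ J.map (algebraMap A C))]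
    (h : IsoMod (I.map (algebraMap A B₀)) (C ⧸ J.map (algebraMap A C))) :
    ∃ (B : Type u) (_ : CommRing B) (_ : Algebra A B) (_ : Algebra B C) (_ : IsScalarTower A B C)
      (_ : Algebra B B₀) (_ : IsScalarTower A B B₀),
      Algebra.FiniteType A B ∧ Algebra.Etale B C ∧
      (∀ a ∈ I, Algebra.Etale A (Localization.Away (algebraMap A B a))) ∧
      Function.Surjective (algebraMap B B₀) ∧
      RingHom.ker (algebraMap B B₀) = J.map (algebraMap A B) ∧
      ∀ b : B, algebraMap B₀ (C ⧸ J.map (algebraMap A C)) (algebraMap B B₀ b) =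
        Ideal.Quotient.mk (J.map (algebraMap A C)) (algebraMap B C b) := by
  obtain ⟨r, a, ha⟩ := Submodule.fg_iff_exists_fin_generating_family.mp (IsNoetherian.noetherian I : I.FG)
  haveI : Module.Flat B₀ (C ⧸ J.map (algebraMap A C)) := inferInstance
  have hI : Ideal.span (Set.range a) = I := ha
  let T : Data.{u} :=
    { A := A, C := C, B₀ := B₀, J := J, hJ := hJ, r := r, a := a
      etC := fun x hx => hC x (hI ▸ hx)
      etB := fun x hx => hB₀ x (hI ▸ hx)
      iso := by
        rw [← hI, Ideal.map_span, ← Set.range_comp] at h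
        exact h }
  haveI : Algebra.FiniteType T.A T.B₀ :=
    Algebra.FiniteType.trans (S := A ⧸ J) inferInstance inferInstance
  haveI : Algebra.Etale T.B₀ T.C₀ := ‹Algebra.Etale B₀ (C ⧸ J.map (algebraMap A C))›
  letI := T.pC.toRingHom.toAlgebra
  letI : Algebra T.B T.B₀ := T.toB₀.toRingHom.toAlgebra
  exact ⟨T.B, inferInstance, inferInstance, T.pC.toRingHom.toAlgebra,
    IsScalarTower.of_algebraMap_eq fun x => (T.pC.commutes x).symm, T.toB₀.toRingHom.toAlgebra,
    IsScalarTower.of_algebraMap_eq fun x => (T.toB₀.commutes x).symm, T.finiteType, T.etale_pC,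
    fun x hx => T.etale_away x (hI.symm ▸ hx), T.toB₀_surjective, T.ker_toB₀, T.toB₀_C⟩

end Groth.L05.EtaleApprox
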