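import Mathlib.RingTheory.Flat.Basic
import Mathlib.RingTheory.TensorProduct.Basic
import Mathlib.LinearAlgebra.TensorProduct.Pi
import Mathlib.LinearAlgebra.TensorProduct.Quotient
import Mathlib.RingTheory.Finiteness.Ideal
import Mathlib.RingTheory.Ideal.Quotient.Operations

/-!
# Patching along a flat map that is an isomorphism modulo an ideal
-/

set_option autoImplicit false

universe u v

open scoped TensorProduct

namespace Groth.L05.EtaleApprox

/-- `R → S` is bijective modulo `I`. -/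
structure IsoMod {R : Type u} [CommRing R] (I : Ideal R) (S : Type u) [CommRing S] [Algebra R S] :
    Prop where
  surj : ∀ s : S, ∃ r : R, s - algebraMap R S r ∈ I.map (algebraMap R S)
  inj : ∀ r : R, algebraMap R S r ∈ I.map (algebraMap R S) → r ∈ I

variable {R : Type u} [CommRing R] {I : Ideal R} {S : Type u} [CommRing S] [Algebra R S]

theorem IsoMod.surj_pow (h : IsoMod I S) (k : ℕ) (s : S) :
    ∃ r : R, s - algebraMap R S r ∈ (I ^ k).map (algebraMap R S) := by
  induction k generalizing s with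
  | zero => exact ⟨0, by simp [Ideal.one_eq_top, Ideal.map_top]⟩
  | succ k ih =>
    obtain ⟨r₀, hr₀⟩ := ih s
    have step : ∀ z ∈ (I ^ k).map (algebraMap R S), ∃ r : R,
        z - algebraMap R S r ∈ (I ^ (k + 1)).map (algebraMap R S) := by
      intro z hz
      refine Submodule.span_induction (p := fun z _ => ∃ r : R,
        z - algebraMap R S r ∈ (I ^ (k + 1)).map (algebraMap R S)) ?_ ⟨0, by simp⟩ ?_ ?_ hz
      · rintro _ ⟨i, hi, rfl⟩
        exact ⟨i, by simp⟩
      · rintro a b - - ⟨ca, ha⟩ ⟨cb, hb⟩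
        exact ⟨ca + cb, by rw [map_add, add_sub_add_comm]; exact add_mem ha hb⟩
      · rintro t a hmem ⟨ca, ha⟩
        obtain ⟨ct, hct⟩ := h.surj t
        refine ⟨ct * ca, ?_⟩
        rw [smul_eq_mul, map_mul, show t * a - algebraMap R S ct * algebraMap R S ca =
          (t - algebraMap R S ct) * a + algebraMap R S ct * (a - algebraMap R S ca) by ring]
        refine add_mem ?_ (Ideal.mul_mem_left _ _ ha)
        rw [pow_succ', Ideal.map_mul]
        exact Ideal.mul_mem_mul hct hmem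
    obtain ⟨r, hr⟩ := step _ hr₀
    exact ⟨r₀ + r, by rwa [map_add, ← sub_sub]⟩

theorem IsoMod.one_mem_of_map_eq_top (h : IsoMod I S) {𝔞 : Ideal R} (hI : I ≤ 𝔞)
    (htop : (1 : S) ∈ 𝔞.map (algebraMap R S)) : (1 : R) ∈ 𝔞 := by
  have key : ∀ z ∈ 𝔞.map (algebraMap R S), ∃ r ∈ 𝔞, z - algebraMap R S r ∈ I.map (algebraMap R S) := by
    intro z hz
    refine Submodule.span_induction (p := fun z _ => ∃ r ∈ 𝔞,
      z - algebraMap R S r ∈ I.map (algebraMap R S)) ?_ ⟨0, zero_mem _, by simp⟩ ?_ ?_ hz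
    · rintro _ ⟨i, hi, rfl⟩
      exact ⟨i, hi, by simp⟩
    · rintro a b - - ⟨ca, hca, ha⟩ ⟨cb, hcb, hb⟩
      exact ⟨ca + cb, add_mem hca hcb, by rw [map_add, add_sub_add_comm]; exact add_mem ha hb⟩
    · rintro t a - ⟨ca, hca, ha⟩
      obtain ⟨ct, hct⟩ := h.surj t
      refine ⟨ct * ca, Ideal.mul_mem_left _ _ hca, ?_⟩
      rw [smul_eq_mul, map_mul, show t * a - algebraMap R S ct * algebraMap R S ca =
        (t - algebraMap R S ct) * a + algebraMap R S ct * (a - algebraMap R S ca) by ring]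
      exact add_mem (Ideal.mul_mem_right _ _ hct) (Ideal.mul_mem_left _ _ ha)
  obtain ⟨r, hr, hr1⟩ := key 1 htop
  rw [← map_one (algebraMap R S), ← map_sub] at hr1
  simpa using add_mem (hI (h.inj _ hr1)) hr

/-- An element killed by `I^k` is zero once it is zero after the flat base change. -/
theorem IsoMod.eq_zero (h : IsoMod I S) [Module.Flat R S] {W : Type u} [AddCommGroup W] [Module R W]
    (k : ℕ) (w : W) (hk : ∀ a ∈ I ^ k, a • w = 0) (h0 : (1 : S) ⊗ₜ[R] w = 0) : w = 0 := by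
  induction k generalizing w with
  | zero => simpa using hk 1 (by simp [Ideal.one_eq_top])
  | succ k ih =>
    refine ih w (fun a ha => ?_) h0
    have h0' : (1 : S) ⊗ₜ[R] (a • w) = 0 := by rw [TensorProduct.tmul_smul, h0, smul_zero]
    let f := LinearMap.toSpanSingleton R W (a • w)
    have hI : I ≤ LinearMap.ker f := fun b hb => by
      rw [LinearMap.mem_ker, LinearMap.toSpanSingleton_apply, smul_smul]
      exact hk _ (pow_succ' I k ▸ Ideal.mul_mem_mul hb ha)
    let g : R ⧸ LinearMap.ker f →ₗ[R] W := (LinearMap.ker f).liftQ f le_rfl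
    have hg : Function.Injective g := LinearMap.ker_eq_bot.mp (Submodule.ker_liftQ_eq_bot _ _ _ le_rfl)
    have h1 : (1 : S) ⊗ₜ[R] (Submodule.Quotient.mk (p := LinearMap.ker f) (1 : R)) = 0 := by
      apply Module.Flat.lTensor_preserves_injective_linearMap (M := S) g hg
      rw [map_zero, LinearMap.lTensor_tmul]
      show (1 : S) ⊗ₜ[R] g (Submodule.Quotient.mk (1 : R)) = 0
      rw [Submodule.liftQ_apply, LinearMap.toSpanSingleton_apply, one_smul, h0']
    let e := TensorProduct.tensorQuotEquivQuotSMul S (LinearMap.ker f)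
    have h2 := congrArg e h1
    rw [map_zero, show (Submodule.Quotient.mk (p := LinearMap.ker f) (1 : R)) =
      Ideal.Quotient.mk (LinearMap.ker f) 1 from rfl, TensorProduct.tensorQuotEquivQuotSMul_tmul_mk,
      one_smul, Submodule.Quotient.mk_eq_zero] at h2
    rw [Ideal.smul_top_eq_map, Submodule.restrictScalars_mem] at h2
    have h3 : (1 : R) ∈ LinearMap.ker f := h.one_mem_of_map_eq_top hI h2
    simpa [f] using h3

/-- Torsion elements descend. -/
theorem IsoMod.exists_tmul_eq (h : IsoMod I S) [Module.Flat R S] (hI : I.FG)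
    {X : Type u} [AddCommGroup X] [Module R X] (k : ℕ) (y : S ⊗[R] X)
    (hy : ∀ a ∈ I ^ k, a • y = 0) : ∃ x : X, (∀ a ∈ I ^ k, a • x = 0) ∧ (1 : S) ⊗ₜ[R] x = y := by
  classical
  obtain ⟨r, g, hg⟩ := Submodule.fg_iff_exists_fin_generating_family.mp (Ideal.FG.pow (n := k) hI)
  let Φ : X →ₗ[R] (Fin r → X) := LinearMap.pi fun i => g i • LinearMap.id
  have hex := Module.Flat.lTensor_exact S (LinearMap.exact_subtype_ker_map Φ)
  have hgy : Φ.lTensor S y = 0 := by
    apply (TensorProduct.piRight R R S fun _ : Fin r => X).injective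
    rw [map_zero]
    funext i
    have h1 : ∀ z : S ⊗[R] X, TensorProduct.piRight R R S (fun _ : Fin r => X) (Φ.lTensor S z) i =
        g i • z := by
      intro z
      induction z with
      | zero => simp
      | tmul s x => simp [Φ, TensorProduct.tmul_smul]
      | add a b ha hb => simp only [map_add, Pi.add_apply, ha, hb, smul_add]
    rw [h1, Pi.zero_apply]
    exact hy _ (hg ▸ Submodule.subset_span ⟨i, rfl⟩)
  obtain ⟨z, rfl⟩ := (hex y).mp hgy
  have hker : ∀ x ∈ LinearMap.ker Φ, ∀ a ∈ I ^ k, a • x = 0 := by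
    intro x hx a ha
    rw [← hg] at ha
    obtain ⟨c, rfl⟩ := Ideal.mem_span_range_iff_exists_fun.mp ha
    have hx' : ∀ i, g i • x = 0 := fun i => congrFun hx i
    rw [Finset.sum_smul]
    exact Finset.sum_eq_zero fun i _ => by rw [mul_smul, hx', smul_zero]
  suffices h2 : ∃ x : LinearMap.ker Φ, (LinearMap.ker Φ).subtype.lTensor S z = (1 : S) ⊗ₜ[R] x.1 by
    obtain ⟨x, hx⟩ := h2
    exact ⟨x.1, hker x.1 x.2, hx.symm⟩
  clear hy hgy
  induction z with
  | zero => exact ⟨0, by simp⟩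
  | tmul s x =>
    obtain ⟨c, hc⟩ := h.surj_pow k s
    refine ⟨c • x, ?_⟩
    rw [LinearMap.lTensor_tmul, Submodule.subtype_apply, Submodule.coe_smul, TensorProduct.tmul_smul,
      TensorProduct.smul_tmul', Algebra.smul_def, mul_one, ← sub_eq_zero, ← TensorProduct.sub_tmul]
    revert hc
    generalize s - algebraMap R S c = w
    intro hw
    refine Submodule.span_induction (p := fun w _ => w ⊗ₜ[R] (x : X) = 0) ?_ ?_ ?_ ?_ hw
    · rintro _ ⟨a, ha, rfl⟩
      rw [Algebra.algebraMap_eq_smul_one, ← TensorProduct.smul_tmul', ← TensorProduct.tmul_smul,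
        hker x.1 x.2 a ha, TensorProduct.tmul_zero]
    · exact TensorProduct.zero_tmul _ _
    · intro a b _ _ ha hb
      rw [TensorProduct.add_tmul, ha, hb, add_zero]
    · intro t a _ ha
      rw [smul_eq_mul, ← smul_eq_mul t a, ← TensorProduct.smul_tmul', ha, smul_zero]
  | add a b ha hb =>
    obtain ⟨xa, ha⟩ := ha
    obtain ⟨xb, hb⟩ := hb
    exact ⟨xa + xb, by rw [map_add, ha, hb, Submodule.coe_add, TensorProduct.tmul_add]⟩

/-- An element of a complex is a torsion element modulo a submodule. -/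
def TorsionMod (I : Ideal R) {W : Type u} [AddCommGroup W] [Module R W] (V : Submodule R W) (w : W) :
    Prop :=
  ∃ k, ∀ a ∈ I ^ k, a • w ∈ V

theorem IsoMod.mem_of_tmul_mem (h : IsoMod I S) [Module.Flat R S] {V W : Type u} [AddCommGroup V]
    [Module R V] [AddCommGroup W] [Module R W] (f : V →ₗ[R] W) {w : W}
    (hw : TorsionMod I (LinearMap.range f) w) {v : S ⊗[R] V} (hv : f.lTensor S v = (1 : S) ⊗ₜ[R] w) :
    w ∈ LinearMap.range f := by
  obtain ⟨k, hk⟩ := hw
  rw [← Submodule.Quotient.mk_eq_zero]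
  refine h.eq_zero k _ (fun a ha => ?_) ?_
  · rw [← Submodule.Quotient.mk_smul, Submodule.Quotient.mk_eq_zero]
    exact hk a ha
  · have h1 := congrArg ((LinearMap.range f).mkQ.lTensor S) hv
    rw [← LinearMap.comp_apply, ← LinearMap.lTensor_comp, LinearMap.range_mkQ_comp,
      LinearMap.lTensor_zero, LinearMap.zero_apply, LinearMap.lTensor_tmul] at h1
    exact h1.symm

variable {X P0 P1 : Type u} [AddCommGroup X] [Module R X] [AddCommGroup P0] [Module R P0]
  [AddCommGroup P1] [Module R P1] {loc : X →ₗ[R] P0} {d : P0 →ₗ[R] P1}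

theorem exists_pow_smul_mem {W : Type u} [AddCommGroup W] [Module R W] (V : Submodule R W)
    {m : ℕ} {z : Fin m → W} (hz : ∀ t, TorsionMod I V (z t)) :
    ∃ k, ∀ t, ∀ a ∈ I ^ k, a • z t ∈ V := by
  choose k hk using hz
  exact ⟨∑ t, k t, fun t a ha =>
    hk t a (Ideal.pow_le_pow_right (Finset.single_le_sum (fun i _ => Nat.zero_le (k i)) (Finset.mem_univ t)) ha)⟩

/-- Sections of the complex after base change are sums of global and local ones. -/
theorem IsoMod.exists_decomp (h : IsoMod I S) [Module.Flat R S]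
    (hT1 : ∀ z ∈ LinearMap.ker d, TorsionMod I (LinearMap.range loc) z)
    {δ : S ⊗[R] P0} (hδ : d.lTensor S δ = 0) :
    ∃ (y : S ⊗[R] X) (n : P0), d n = 0 ∧ δ = loc.lTensor S y + (1 : S) ⊗ₜ[R] n := by
  obtain ⟨w, rfl⟩ := (Module.Flat.lTensor_exact S (LinearMap.exact_subtype_ker_map d) δ).mp hδ
  clear hδ
  induction w with
  | zero => exact ⟨0, 0, map_zero _, by simp⟩
  | tmul s z =>
    obtain ⟨k, hk⟩ := hT1 z.1 z.2
    obtain ⟨c, hc⟩ := h.surj_pow k s
    have hrange : ∀ w ∈ (I ^ k).map (algebraMap R S),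
        ∃ y, loc.lTensor S y = w ⊗ₜ[R] z.1 := by
      intro w hw
      refine Submodule.span_induction (p := fun w _ => ∀ t : S, ∃ y, loc.lTensor S y = (t * w) ⊗ₜ[R] z.1)
        ?_ ?_ ?_ ?_ hw 1 |>.imp fun y hy => by rwa [one_mul] at hy
      · rintro _ ⟨a, ha, rfl⟩ t
        obtain ⟨x, hx⟩ := hk a ha
        refine ⟨t ⊗ₜ x, ?_⟩
        rw [LinearMap.lTensor_tmul, hx, TensorProduct.tmul_smul, TensorProduct.smul_tmul',
          Algebra.smul_def, mul_comm]
      · exact fun t => ⟨0, by simp⟩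
      · intro a b _ _ ha hb t
        obtain ⟨ya, ha⟩ := ha t
        obtain ⟨yb, hb⟩ := hb t
        exact ⟨ya + yb, by rw [map_add, ha, hb, mul_add, TensorProduct.add_tmul]⟩
      · intro u a _ ha t
        obtain ⟨y, hy⟩ := ha (t * u)
        exact ⟨y, by rw [hy, smul_eq_mul, mul_assoc]⟩
    obtain ⟨y, hy⟩ := hrange _ hc
    refine ⟨y, c • z.1, by rw [map_smul, show d z.1 = 0 from z.2, smul_zero], ?_⟩
    rw [LinearMap.lTensor_tmul, hy, TensorProduct.sub_tmul, TensorProduct.tmul_smul,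
      TensorProduct.smul_tmul', Algebra.smul_def, mul_one, sub_add_cancel]
    rfl
  | add a b ha hb =>
    obtain ⟨ya, na, hna, ha⟩ := ha
    obtain ⟨yb, nb, hnb, hb⟩ := hb
    refine ⟨ya + yb, na + nb, by rw [map_add, hna, hnb, add_zero], ?_⟩
    rw [map_add, ha, hb, map_add, TensorProduct.tmul_add]
    abel

/-- Vanishing of the obstruction. -/
theorem IsoMod.exists_correction (h : IsoMod I S) [Module.Flat R S]
    (hT1 : ∀ z ∈ LinearMap.ker d, TorsionMod I (LinearMap.range loc) z)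
    {δ : S ⊗[R] P0} {ε : P1} (hε : TorsionMod I (LinearMap.range d) ε)
    (hδε : d.lTensor S δ = (1 : S) ⊗ₜ[R] ε) :
    ∃ (y : S ⊗[R] X) (n : P0), d n = ε ∧ δ = loc.lTensor S y + (1 : S) ⊗ₜ[R] n := by
  obtain ⟨n₀, rfl⟩ := h.mem_of_tmul_mem d hε hδε
  obtain ⟨y, n, hn, hδ⟩ := h.exists_decomp hT1 (δ := δ - (1 : S) ⊗ₜ[R] n₀)
    (by rw [map_sub, LinearMap.lTensor_tmul, hδε, sub_self])
  refine ⟨y, n + n₀, by rw [map_add, hn, zero_add], ?_⟩
  rw [TensorProduct.tmul_add, ← add_assoc, ← hδ, sub_add_cancel]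

/-- Gluing. -/
theorem IsoMod.exists_glue (h : IsoMod I S) [Module.Flat R S] (hI : I.FG)
    (hT1 : ∀ z ∈ LinearMap.ker d, TorsionMod I (LinearMap.range loc) z)
    (hT0S : ∀ y, loc.lTensor S y = 0 → ∃ k, ∀ a ∈ I ^ k, a • y = 0)
    (hT0' : ∀ x : X, (∃ k, ∀ a ∈ I ^ k, a • x = 0) → loc x = 0)
    {y : S ⊗[R] X} {n : P0} (hn : d n = 0) (hy : loc.lTensor S y = (1 : S) ⊗ₜ[R] n) :
    ∃ x : X, (1 : S) ⊗ₜ[R] x = y ∧ loc x = n := by
  obtain ⟨x₀, rfl⟩ := h.mem_of_tmul_mem loc (hT1 n hn) hy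
  obtain ⟨k, hk⟩ := hT0S (y - (1 : S) ⊗ₜ[R] x₀) (by rw [map_sub, hy, LinearMap.lTensor_tmul, sub_self])
  obtain ⟨x, hx, hxy⟩ := h.exists_tmul_eq hI k _ hk
  exact ⟨x + x₀, by rw [TensorProduct.tmul_add, hxy, sub_add_cancel],
    by rw [map_add, hT0' x ⟨k, hx⟩, zero_add]⟩

end Groth.L05.EtaleApprox
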