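import Groth.Agent.L05.EtaleApprox.Complex
import Groth.Agent.L05.EtaleApprox.Lift
import Mathlib.RingTheory.Localization.BaseChange
import Mathlib.RingTheory.Localization.Away.Basic

/-!
# The local pieces of the lifted algebra
-/

set_option autoImplicit false
set_option linter.style.haveILetI false
set_option backward.isDefEq.respectTransparency.types false
set_option backward.isDefEq.respectTransparency false

universe u

open scoped TensorProduct

namespace Groth.L05.EtaleApprox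

/-- Reductions localize. -/
theorem exists_red_localization {A : Type u} [CommRing A] {J : Ideal A} {F F₀ FL F₀L : Type u}
    [CommRing F] [CommRing F₀] [CommRing FL] [CommRing F₀L] [Algebra A F] [Algebra A F₀]
    [Algebra A FL] [Algebra A F₀L] [Algebra F FL] [IsScalarTower A F FL] [Algebra F₀ F₀L]
    [IsScalarTower A F₀ F₀L] (x : A) [IsLocalization.Away (algebraMap A F x) FL]
    [IsLocalization.Away (algebraMap A F₀ x) F₀L] (P : Red J F F₀) :
    ∃ Q : Red J FL F₀L, ∀ f, Q.π (algebraMap F FL f) = algebraMap F₀ F₀L (P.π f) := by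
  let h : F →ₐ[A] F₀L := (IsScalarTower.toAlgHom A F₀ F₀L).comp P.π
  have hu : ∀ y : Submonoid.powers (algebraMap A F x), IsUnit (h y.1) := by
    rintro ⟨_, n, rfl⟩
    show IsUnit (h (algebraMap A F x ^ n))
    rw [map_pow, AlgHom.commutes, IsScalarTower.algebraMap_apply A F₀ F₀L]
    exact (IsLocalization.Away.algebraMap_isUnit _).pow n
  let π : FL →ₐ[A] F₀L := IsLocalization.liftAlgHom (f := h) hu
  have hπ : ∀ f, π (algebraMap F FL f) = algebraMap F₀ F₀L (P.π f) := fun f => by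
    simp [π, h, IsLocalization.lift_eq]
  have hx : ∀ n : ℕ, algebraMap F₀ F₀L (algebraMap A F₀ x ^ n) =
      π (algebraMap F FL (algebraMap A F x ^ n)) := fun n => by rw [hπ, map_pow P.π, AlgHom.commutes]
  refine ⟨⟨π, fun z => ?_, le_antisymm ?_ ?_⟩, hπ⟩
  · obtain ⟨⟨y, ⟨_, n, rfl⟩⟩, hy⟩ := IsLocalization.surj (Submonoid.powers (algebraMap A F₀ x)) z
    obtain ⟨w, rfl⟩ := P.surj y
    refine ⟨IsLocalization.mk' FL w (⟨_, n, rfl⟩ : Submonoid.powers (algebraMap A F x)), ?_⟩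
    have hu' : IsUnit (algebraMap F₀ F₀L (algebraMap A F₀ x ^ n)) :=
      (IsLocalization.Away.algebraMap_isUnit _).pow n |> fun h => by rwa [map_pow]
    refine hu'.mul_left_injective ?_
    show π _ * algebraMap F₀ F₀L (algebraMap A F₀ x ^ n) = z * algebraMap F₀ F₀L (algebraMap A F₀ x ^ n)
    rw [hy, hx, ← map_mul π, IsLocalization.mk'_spec, hπ]
  · intro z hz
    obtain ⟨⟨w, ⟨_, n, rfl⟩⟩, hw⟩ := IsLocalization.surj (Submonoid.powers (algebraMap A F x)) z
    have hw' : z * algebraMap F FL (algebraMap A F x ^ n) = algebraMap F FL w := hw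
    have h0 : algebraMap F₀ F₀L (P.π w) = 0 := by
      rw [← hπ, ← hw', map_mul, show π z = 0 from hz, zero_mul]
    obtain ⟨⟨_, m, rfl⟩, hm⟩ :=
      (IsLocalization.map_eq_zero_iff (Submonoid.powers (algebraMap A F₀ x)) F₀L _).mp h0
    have h1 : algebraMap A F x ^ m * w ∈ J.map (algebraMap A F) := by
      rw [← P.ker, RingHom.mem_ker]
      show P.π _ = 0
      rw [map_mul, map_pow, AlgHom.commutes]
      exact hm
    have h2 := Ideal.mem_map_of_mem (algebraMap F FL) h1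
    rw [Ideal.map_map, ← IsScalarTower.algebraMap_eq, map_mul, ← hw', mul_comm z, ← mul_assoc, map_pow,
      map_pow, ← pow_add,
      Ideal.unit_mul_mem_iff_mem _ ((IsLocalization.Away.algebraMap_isUnit _).pow _)] at h2
    exact h2
  · rw [Ideal.map_le_iff_le_comap]
    intro j hj
    rw [Ideal.mem_comap, RingHom.mem_ker]
    show π _ = 0
    rw [IsScalarTower.algebraMap_apply A F FL, hπ]
    have : algebraMap A F j ∈ RingHom.ker P.π.toRingHom := P.ker ▸ Ideal.mem_map_of_mem _ hj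
    rw [show P.π (algebraMap A F j) = 0 from this, map_zero]

/-- The data of a square zero thickening. -/
structure Data where
  A : Type u
  C : Type u
  B₀ : Type u
  [iA : CommRing A]
  [iC : CommRing C]
  [iB : CommRing B₀]
  [iAC : Algebra A C]
  [iAB : Algebra A B₀]
  J : Ideal A
  hJ : ∀ a ∈ J, ∀ b ∈ J, a * b = 0
  [iABJ : Algebra (A ⧸ J) B₀]
  [iABt : IsScalarTower A (A ⧸ J) B₀]
  r : ℕ
  a : Fin r → A
  [iBC : Algebra B₀ (C ⧸ J.map (algebraMap A C))]
  [iBCt : IsScalarTower A B₀ (C ⧸ J.map (algebraMap A C))]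
  [flat : Module.Flat B₀ (C ⧸ J.map (algebraMap A C))]
  etC : ∀ x ∈ Ideal.span (Set.range a), Algebra.Etale A (Localization.Away (algebraMap A C x))
  etB : ∀ x ∈ Ideal.span (Set.range a), Algebra.Etale (A ⧸ J) (Localization.Away (algebraMap A B₀ x))
  iso : IsoMod (Ideal.span (Set.range fun i => algebraMap A B₀ (a i))) (C ⧸ J.map (algebraMap A C))

attribute [instance] Data.iA Data.iC Data.iB Data.iAC Data.iAB Data.iABJ Data.iABt Data.iBC Data.iBCt
  Data.flat

namespace Data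

variable (T : Data.{u})

/-- `C₀ = C / J C`. -/
abbrev C₀ : Type u := T.C ⧸ T.J.map (algebraMap T.A T.C)

/-- The index type of localizations. -/
abbrev K : Type u := ↥(Ideal.span (Set.range T.a))

/-- Localization of `B₀`. -/
abbrev BL (x : T.K) : Type u := Localization.Away (algebraMap T.A T.B₀ x.1)

/-- Localization of `C`. -/
abbrev CL (x : T.K) : Type u := Localization.Away (algebraMap T.A T.C x.1)

/-- Localization of `C₀`. -/
abbrev SL (x : T.K) : Type u := T.C₀ ⊗[T.B₀] T.BL x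

/-- The reduction of `C`. -/
noncomputable def red : Red T.J T.C T.C₀ where
  π := Ideal.Quotient.mkₐ T.A _
  surj := Ideal.Quotient.mk_surjective
  ker := Ideal.mk_ker

instance (x : T.K) : IsLocalization.Away (algebraMap T.A T.C₀ x.1) (T.SL x) := by
  rw [IsScalarTower.algebraMap_apply T.A T.B₀ T.C₀]
  exact IsLocalization.Away.tensor _ _

/-- A lift of a localization of `B₀`. -/
theorem exists_E (x : T.K) :
    ∃ (E : Type u) (_ : CommRing E) (_ : Algebra T.A E) (_ : Algebra.Etale T.A E),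
      Nonempty (Red T.J E (T.BL x)) :=
  haveI := T.etB x.1 x.2
  exists_red T.J (T.BL x)

/-- The lifts. -/
def E (x : T.K) : Type u := (T.exists_E x).choose

noncomputable instance (x : T.K) : CommRing (T.E x) := (T.exists_E x).choose_spec.choose
noncomputable instance (x : T.K) : Algebra T.A (T.E x) := (T.exists_E x).choose_spec.choose_spec.choose
instance (x : T.K) : Algebra.Etale T.A (T.E x) :=
  (T.exists_E x).choose_spec.choose_spec.choose_spec.choose
instance (x : T.K) : Algebra.Etale T.A (T.CL x) := T.etC x.1 x.2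

/-- The reduction of a lift. -/
noncomputable def P (x : T.K) : Red T.J (T.E x) (T.BL x) :=
  Classical.choice (T.exists_E x).choose_spec.choose_spec.choose_spec.choose_spec

theorem exists_Q (x : T.K) : ∃ Q : Red T.J (T.CL x) (T.SL x),
    ∀ f, Q.π (algebraMap T.C (T.CL x) f) = algebraMap T.C₀ (T.SL x) (T.red.π f) :=
  exists_red_localization x.1 T.red

/-- The reduction of a localization of `C`. -/
noncomputable def Q (x : T.K) : Red T.J (T.CL x) (T.SL x) := (T.exists_Q x).choose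

theorem Q_apply (x : T.K) (f : T.C) :
    (T.Q x).π (algebraMap T.C (T.CL x) f) = algebraMap T.C₀ (T.SL x) (T.red.π f) :=
  (T.exists_Q x).choose_spec f

/-- The element of `B₀` of an index. -/
abbrev φ (x : T.K) : T.B₀ := algebraMap T.A T.B₀ x.1

section Dvd

variable {x y : T.K} (h : x.1 ∣ y.1)

theorem isUnit_of_dvd {R : Type u} [CommRing R] {L : Type u} [CommRing L] [Algebra R L] (f : T.A →+* R)
    [IsLocalization.Away (f y.1) L] (h : x.1 ∣ y.1) : IsUnit (algebraMap R L (f x.1)) :=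
  isUnit_of_dvd_unit (map_dvd _ (map_dvd f h)) (IsLocalization.Away.algebraMap_isUnit (f y.1))

/-- Restriction on localizations of `B₀`. -/
noncomputable def ρ₀ : T.BL x →ₐ[T.B₀] T.BL y :=
  IsLocalization.liftAlgHom (M := Submonoid.powers (T.φ x)) (f := Algebra.ofId T.B₀ (T.BL y)) (by
    rintro ⟨_, n, rfl⟩
    show IsUnit (algebraMap T.B₀ (T.BL y) (T.φ x ^ n))
    rw [map_pow]
    exact (T.isUnit_of_dvd (algebraMap T.A T.B₀) h).pow n)

/-- Restriction on localizations of `C`. -/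
noncomputable def σ : T.CL x →ₐ[T.C] T.CL y :=
  IsLocalization.liftAlgHom (M := Submonoid.powers (algebraMap T.A T.C x.1))
    (f := Algebra.ofId T.C (T.CL y)) (by
    rintro ⟨_, n, rfl⟩
    show IsUnit (algebraMap T.C (T.CL y) (algebraMap T.A T.C x.1 ^ n))
    rw [map_pow]
    exact (T.isUnit_of_dvd (algebraMap T.A T.C) h).pow n)

/-- Restriction on localizations of `C₀`. -/
noncomputable def σ₀ : T.SL x →ₐ[T.C₀] T.SL y :=
  Algebra.TensorProduct.map (AlgHom.id T.C₀ T.C₀) (T.ρ₀ h)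

theorem Q_natural (z : T.CL x) :
    (T.Q y).π (T.σ h z) = (T.σ₀ h).restrictScalars T.A ((T.Q x).π z) := by
  refine congrFun (congrArg DFunLike.coe (IsLocalization.ringHom_ext
    (Submonoid.powers (algebraMap T.A T.C x.1))
    (j := (T.Q y).π.toRingHom.comp (T.σ h).toRingHom)
    (k := ((T.σ₀ h).restrictScalars T.A).toRingHom.comp (T.Q x).π.toRingHom) ?_)) z
  ext f
  show (T.Q y).π (T.σ h (algebraMap T.C _ f)) = T.σ₀ h ((T.Q x).π (algebraMap T.C _ f))
  rw [AlgHom.commutes, T.Q_apply, T.Q_apply, AlgHom.commutes]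

theorem existsUnique_ρ : ∃! f : T.E x →ₐ[T.A] T.E y,
    (T.P y).π.comp f = ((T.ρ₀ h).restrictScalars T.A).comp (T.P x).π :=
  (T.P y).existsUnique_lift T.hJ _

/-- Restriction on lifts. -/
noncomputable def ρ : T.E x →ₐ[T.A] T.E y := (T.existsUnique_ρ h).exists.choose

theorem P_natural (z : T.E x) : (T.P y).π (T.ρ h z) = (T.ρ₀ h).restrictScalars T.A ((T.P x).π z) :=
  DFunLike.congr_fun (T.existsUnique_ρ h).exists.choose_spec z

theorem ρ₀_trans {z : T.K} (h' : y.1 ∣ z.1) (e : T.BL x) :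
    T.ρ₀ h' (T.ρ₀ h e) = T.ρ₀ (h.trans h') e :=
  DFunLike.congr_fun (IsLocalization.algHom_ext (Submonoid.powers (T.φ x))
    (f := (T.ρ₀ h').comp (T.ρ₀ h)) (g := T.ρ₀ (h.trans h')) (Algebra.ext_id _ _ _)) e

theorem ρ_trans {z : T.K} (h' : y.1 ∣ z.1) (e : T.E x) : T.ρ h' (T.ρ h e) = T.ρ (h.trans h') e := by
  refine DFunLike.congr_fun ((T.existsUnique_ρ (h.trans h')).unique (y₁ := (T.ρ h').comp (T.ρ h))
    (y₂ := T.ρ (h.trans h')) (AlgHom.ext fun w => ?_) (T.existsUnique_ρ (h.trans h')).exists.choose_spec) e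
  show (T.P z).π (T.ρ h' (T.ρ h w)) = T.ρ₀ (h.trans h') ((T.P x).π w)
  rw [T.P_natural, T.P_natural, AlgHom.restrictScalars_apply, AlgHom.restrictScalars_apply, T.ρ₀_trans]

end Dvd

theorem existsUnique_ψ (x : T.K) : ∃! f : T.E x →ₐ[T.A] T.CL x,
    (T.Q x).π.comp f =
      ((Algebra.TensorProduct.includeRight : T.BL x →ₐ[T.B₀] T.SL x).restrictScalars T.A).comp (T.P x).π :=
  (T.Q x).existsUnique_lift T.hJ _

/-- The maps from the lifts to the localizations of `C`. -/
noncomputable def ψ (x : T.K) : T.E x →ₐ[T.A] T.CL x := (T.existsUnique_ψ x).exists.choose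

theorem Q_ψ (x : T.K) (e : T.E x) : (T.Q x).π (T.ψ x e) = (1 : T.C₀) ⊗ₜ[T.B₀] (T.P x).π e :=
  DFunLike.congr_fun (T.existsUnique_ψ x).exists.choose_spec e

theorem σ_ψ {x y : T.K} (h : x.1 ∣ y.1) (e : T.E x) : T.σ h (T.ψ x e) = T.ψ y (T.ρ h e) := by
  refine DFunLike.congr_fun (ExistsUnique.unique ((T.Q y).existsUnique_lift T.hJ
    (((Algebra.TensorProduct.includeRight : T.BL y →ₐ[T.B₀] T.SL y).comp (T.ρ₀ h)).restrictScalars T.A
      |>.comp (T.P x).π))
    (y₁ := ((T.σ h).restrictScalars T.A).comp (T.ψ x)) (y₂ := (T.ψ y).comp (T.ρ h))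
    (AlgHom.ext fun w => ?_) (AlgHom.ext fun w => ?_)) e
  · show (T.Q y).π (T.σ h (T.ψ x w)) = (1 : T.C₀) ⊗ₜ[T.B₀] T.ρ₀ h ((T.P x).π w)
    rw [T.Q_natural, T.Q_ψ]
    rfl
  · show (T.Q y).π (T.ψ y (T.ρ h w)) = (1 : T.C₀) ⊗ₜ[T.B₀] T.ρ₀ h ((T.P x).π w)
    rw [T.Q_ψ, T.P_natural]
    rfl

/-- Index of a generator. -/
def k1 (i : Fin T.r) : T.K := ⟨T.a i, Ideal.subset_span ⟨i, rfl⟩⟩

/-- Index of a double intersection. -/
def k2 (i j : Fin T.r) : T.K :=
  ⟨T.a i * T.a j, Ideal.mul_mem_right _ _ (Ideal.subset_span ⟨i, rfl⟩)⟩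

/-- Index of a triple intersection. -/
def k3 (i j l : Fin T.r) : T.K :=
  ⟨T.a i * T.a j * T.a l, Ideal.mul_mem_right _ _ (Ideal.mul_mem_right _ _ (Ideal.subset_span ⟨i, rfl⟩))⟩

theorem k1_left (i j : Fin T.r) : (T.k1 i).1 ∣ (T.k2 i j).1 := dvd_mul_right _ _
theorem k1_right (i j : Fin T.r) : (T.k1 j).1 ∣ (T.k2 i j).1 := dvd_mul_left _ _

/-- The system of localizations of `B₀ ⊗ J`. -/
@[reducible] noncomputable def DJ : LocSys T.B₀ (T.B₀ ⊗[T.A] T.J) T.r where
  K := T.K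
  φ := T.φ
  M x := T.BL x ⊗[T.A] T.J
  acg _ := inferInstance
  mod _ := inferInstance
  g x := TensorProduct.AlgebraTensorModule.rTensor T.A T.J (Algebra.linearMap T.B₀ (T.BL x))
  isLoc _ := inferInstance
  k1 := T.k1
  k2 := T.k2
  k3 := T.k3
  hk2 _ _ := map_mul _ _ _
  hk3 _ _ _ := (map_mul (algebraMap T.A T.B₀) _ _).trans (congrArg (· * _) (map_mul _ _ _))

/-- The system of localizations of `B₀`. -/
@[reducible] noncomputable def DB : LocSys T.B₀ T.B₀ T.r where
  K := T.K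
  φ := T.φ
  M x := T.BL x
  acg _ := inferInstance
  mod _ := inferInstance
  g x := Algebra.linearMap T.B₀ (T.BL x)
  isLoc _ := inferInstance
  k1 := T.k1
  k2 := T.k2
  k3 := T.k3
  hk2 _ _ := map_mul _ _ _
  hk3 _ _ _ := (map_mul (algebraMap T.A T.B₀) _ _).trans (congrArg (· * _) (map_mul _ _ _))

theorem DJ_res {x y : T.K} (h : x.1 ∣ y.1) (h' : T.DJ.φ x ∣ T.DJ.φ y) (z : T.BL x ⊗[T.A] T.J) :
    T.DJ.res h' z = ((T.ρ₀ h).restrictScalars T.A).toLinearMap.rTensor T.J z := by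
  have := LinearMap.congr_fun (T.DJ.res_unique h'
    (TensorProduct.AlgebraTensorModule.rTensor T.A T.J (T.ρ₀ h).toLinearMap) fun m => by
      induction m using TensorProduct.induction_on with
      | zero => simp only [map_zero]
      | tmul b j =>
        show ((T.ρ₀ h) (algebraMap T.B₀ (T.BL x) b)) ⊗ₜ[T.A] j = algebraMap T.B₀ (T.BL y) b ⊗ₜ[T.A] j
        rw [AlgHom.commutes]
      | add a b ha hb => simp only [map_add, ha, hb]) z
  rw [← this]
  rfl

theorem DB_res {x y : T.K} (h : x.1 ∣ y.1) (h' : T.DB.φ x ∣ T.DB.φ y) (z : T.BL x) :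
    T.DB.res h' z = T.ρ₀ h z :=
  (LinearMap.congr_fun (T.DB.res_unique h' (T.ρ₀ h).toLinearMap fun m => (T.ρ₀ h).commutes m) z).symm

theorem isoJ : IsoMod T.DJ.ideal T.C₀ := T.iso
theorem isoB : IsoMod T.DB.ideal T.C₀ := T.iso

/-- Reassociation. -/
noncomputable def α (x : T.K) : T.C₀ ⊗[T.B₀] (T.BL x ⊗[T.A] T.J) ≃ₗ[T.B₀] T.SL x ⊗[T.A] T.J :=
  (TensorProduct.AlgebraTensorModule.assoc T.A T.B₀ T.B₀ T.C₀ (T.BL x) T.J).symm

theorem α_tmul (x : T.K) (s : T.C₀) (e : T.BL x) (j : T.J) :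
    T.α x (s ⊗ₜ (e ⊗ₜ j)) = (s ⊗ₜ e) ⊗ₜ j := rfl

/-- Multiplication into a localization of `C`. -/
noncomputable def ν (x : T.K) : T.C₀ ⊗[T.B₀] (T.DJ.M x) →ₗ[T.A] T.CL x :=
  (T.Q x).μ T.hJ ∘ₗ ((T.α x).restrictScalars T.A).toLinearMap

theorem ν_injective (x : T.K) : Function.Injective (T.ν x) :=
  haveI : Module.Flat T.A (T.CL x) := inferInstance
  ((T.Q x).μ_injective T.hJ).comp (T.α x).injective

theorem μE_injective (x : T.K) : Function.Injective ((T.P x).μ T.hJ) :=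
  haveI : Module.Flat T.A (T.E x) := inferInstance
  (T.P x).μ_injective T.hJ

theorem ν_one_tmul (x : T.K) (n : T.BL x ⊗[T.A] T.J) :
    T.ν x ((1 : T.C₀) ⊗ₜ[T.B₀] n) = T.ψ x ((T.P x).μ T.hJ n) := by
  rw [(T.P x).μ_natural (T.Q x) T.hJ (T.ψ x)
    ((Algebra.TensorProduct.includeRight : T.BL x →ₐ[T.B₀] T.SL x).restrictScalars T.A) (T.Q_ψ x)]
  show (T.Q x).μ T.hJ (T.α x (1 ⊗ₜ n)) = _
  congr 1

theorem σ_ν {x y : T.K} (h : x.1 ∣ y.1) (h' : T.DJ.φ x ∣ T.DJ.φ y) (z : T.C₀ ⊗[T.B₀] T.DJ.M x) :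
    T.σ h (T.ν x z) = T.ν y ((T.DJ.res h').lTensor T.C₀ z) := by
  show ((T.σ h).restrictScalars T.A) ((T.Q x).μ T.hJ (T.α x z)) = (T.Q y).μ T.hJ (T.α y _)
  rw [(T.Q x).μ_natural (T.Q y) T.hJ ((T.σ h).restrictScalars T.A) ((T.σ₀ h).restrictScalars T.A)
    (T.Q_natural h)]
  congr 1
  induction z using TensorProduct.induction_on with
  | zero => simp
  | tmul s m =>
    rw [LinearMap.lTensor_tmul, T.DJ_res h h']
    induction m using TensorProduct.induction_on with
    | zero => simp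
    | tmul e j => rfl
    | add a b ha hb => simp only [TensorProduct.tmul_add, map_add, ha, hb]
  | add a b ha hb => simp only [map_add, ha, hb]

/-- Multiplication into `C`. -/
noncomputable def νC : T.C₀ ⊗[T.B₀] (T.B₀ ⊗[T.A] T.J) →ₗ[T.A] T.C :=
  T.red.μ T.hJ ∘ₗ
    ((TensorProduct.AlgebraTensorModule.cancelBaseChange T.A T.B₀ T.B₀ T.C₀ T.J).restrictScalars T.A).toLinearMap

theorem ℓ_νC (x : T.K) (y : T.C₀ ⊗[T.B₀] (T.B₀ ⊗[T.A] T.J)) :
    algebraMap T.C (T.CL x) (T.νC y) = T.ν x ((T.DJ.g x).lTensor T.C₀ y) := by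
  show IsScalarTower.toAlgHom T.A T.C (T.CL x) (T.red.μ T.hJ _) = (T.Q x).μ T.hJ (T.α x _)
  rw [T.red.μ_natural (T.Q x) T.hJ (IsScalarTower.toAlgHom T.A T.C (T.CL x))
    (IsScalarTower.toAlgHom T.A T.C₀ (T.SL x)) (T.Q_apply x)]
  congr 1
  induction y using TensorProduct.induction_on with
  | zero => simp
  | tmul s m =>
    induction m using TensorProduct.induction_on with
    | zero => simp
    | tmul b j =>
      show (algebraMap T.C₀ (T.SL x) (b • s)) ⊗ₜ[T.A] j = (s ⊗ₜ algebraMap T.B₀ (T.BL x) b) ⊗ₜ[T.A] j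
      rw [Algebra.TensorProduct.algebraMap_apply, Algebra.algebraMap_self, RingHom.id_apply,
        Algebra.algebraMap_eq_smul_one b, TensorProduct.smul_tmul]
    | add a b ha hb => simp only [TensorProduct.tmul_add, map_add, ha, hb]
  | add a b ha hb => simp only [map_add, ha, hb]

end Data

end Groth.L05.EtaleApprox
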